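import Cfsg.Agent.Lib.ClassK.M12Graph.Scan
import Cfsg.Agent.Lib.Recog.OrderM12.Main

/-!
The finite checks on the character columns of `M₁₂`.
-/

set_option autoImplicit false

namespace CfsgLib.ClassK.M12Graph

open CfsgLib.Recog.OrderM12 CfsgLib.ClassK.RowInvolution

/-- Possible `k`, for degrees `11 k`. -/
def ks : List ℕ := [20, 18, 16, 15, 12, 10, 9, 8, 6, 5, 4, 3, 2, 1]

theorem mem_ks : ((List.range 22).all fun k => decide (8640 % k ≠ 0) || decide (k ∈ ks)) = true := by
  decide +kernel

/-- The values at an element of order five for the degree `11 k`. -/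
def us (k : ℕ) : List ℤ := [0, -1, 1, -2, 2].filter fun u => decide (((11 * k : ℕ) : ℤ) % 5 = u % 5)

/-- The values at an involution with centralizer order `c` for the degree `11 k`. -/
def vs (c : ℕ) (need : ℤ) (k : ℕ) : List ℤ :=
  (around 37).filter fun v => decide (v * v ≤ need) && decide ((((11 * k : ℕ) : ℤ) - v) % 4 = 0) &&
    decide (((95040 / c : ℕ) : ℤ) * v % ((11 * k : ℕ) : ℤ) = 0)

/-- The options at the element of order five. -/
def optsY (keep : ℕ → Bool) : List (ℕ × ℤ × ℤ) :=
  (ks.filter keep).flatMap fun k => (us k).map fun u => (k, u, 0)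

/-- The options at both elements. -/
def opts (keep : ℕ → Bool) (c : ℕ) (need : ℤ) : List (ℕ × ℤ × ℤ) :=
  (ks.filter keep).flatMap fun k => (us k).flatMap fun u => (vs c need k).map fun v => (k, u, v)

/-- The degrees of the rows other than the trivial one, with multiplicity. -/
def rowDegs : List ℕ := [45, 144, 54, 120, 16, 16]

/-- The possible row values at the involution centralising an element of order five. -/
def rowCols : List (ℕ × List ℤ) :=
  [(240, [5, -4, 6, 0, -4, -4]), (240, [5, 4, 6, 0, 4, 4]), (1440, [-15, 24, 18, 0, -8, -8])]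

theorem check_cols : ([240, 1440].all fun c => (invVecs 95040 2 c mainL 16 1).all fun r =>
    decide ((c, rowDegs.map (valOf r)) ∈ rowCols)) = true := by
  decide +kernel

/-- The target of the weighted sum at the involution. -/
def tgt (col : List ℤ) : ℤ := -(1 + ((rowDegs.zip col).map fun a => (a.1 : ℤ) * a.2).sum)

/-- The target of the sum of squares at the involution. -/
def rest (c : ℕ) (col : List ℤ) : ℤ := (c : ℤ) - 1 - (col.map fun v => v * v).sum

theorem check_five : scan (optsY fun k => decide (k % 5 ≠ 0)) 450 15 5 0 0 = false := by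
  decide +kernel

/-- The search at one column. -/
def threeOK (a : ℕ × List ℤ) : Bool := decide (tgt a.2 % 11 ≠ 0) ||
  !scan (opts (fun k => decide (k % 3 ≠ 0)) a.1 (rest a.1 a.2)) 450 15 5 (tgt a.2 / 11)
    (rest a.1 a.2)

theorem three_a : threeOK (240, [5, -4, 6, 0, -4, -4]) = true := by decide +kernel

theorem three_b : threeOK (240, [5, 4, 6, 0, 4, 4]) = true := by decide +kernel

theorem three_c : threeOK (1440, [-15, 24, 18, 0, -8, -8]) = true := by decide +kernel

theorem check_three : rowCols.all threeOK = true := by
  simp only [rowCols, List.all_cons, List.all_nil, three_a, three_b, three_c, Bool.and_self]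

end CfsgLib.ClassK.M12Graph
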