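import Cfsg.Agent.Lib.ClassK.M12Graph.Checks
import Cfsg.Agent.Lib.ClassK.M12Nse.Local
import Cfsg.Agent.Lib.BlockB.Codegree

/-!
Degrees divisible by `55` and by `33` in a group with the element counts of `M₁₂`.
-/

set_option autoImplicit false
set_option linter.style.haveILetI false
set_option maxHeartbeats 1000000

namespace CfsgLib.ClassK.M12Graph

open Cfsg CfsgLib CfsgLib.Recog.OrderM12
open scoped ComplexConjugate

universe u

variable {G : Type u} [Group G] [Finite G]

/-- Both elements of order five with integral values. -/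
theorem isConj_five (h : M12Nse.Hyp G) {x y : G} (hx : orderOf x = 5) (hy : orderOf y = 5) :
    IsConj x y := by
  have hsub : M12Nse.cl x ⊆ {g : G | orderOf g = 5} := fun t ht =>
    (M12Nse.orderOf_mem_cl ht).trans hx
  have hmul := M12Nse.ncard_cl_mul x
  rw [M12Nse.card_cent_five h hx, h.card] at hmul
  have heq := Set.eq_of_subset_of_ncard_le hsub (by
    rw [← Nat.card_coe_set_eq]
    have := M12Nse.cnt_five h
    rw [show Nat.card ↥{g : G | orderOf g = 5} = Nat.card {g : G // orderOf g = 5} from rfl, this]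
    omega) (Set.toFinite _)
  exact M12Nse.mem_cl.1 (heq.ge hy)

/-- The rows besides the trivial one, by degree. -/
theorem row_sum [Fact (Nat.Prime 11)] {P : Sylow 11 G} {M : Ideal AlgInt}
    {CF YF : Finset (IrrCharacter G)} {ε : IrrCharacter G → ℤ} (C : Main P M CF YF ε)
    [DecidableEq (IrrCharacter G)] (F : IrrCharacter G → ℤ) (g : ℕ → ℤ)
    (hg : ∀ φ : IrrCharacter G, φ ≠ trivChar → (φ ∈ CF ∨ φ ∈ YF) →
      F φ = g (charDegree (φ : G → ℂ))) :
    ∑ φ ∈ CF ∪ YF, F φ = F trivChar + (rowDegs.map g).sum := by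
  classical
  have hd := congrArg (Multiset.map fun a : ℕ × Bool => g a.1) C.setup.map
  rw [Multiset.map_map, Multiset.map_coe] at hd
  rw [Finset.sum_union C.setup.rows.disj, sum_others (C.setup.rows.one_mem : (trivChar : IrrCharacter G) ∈ CF)]
  have h1 : ∑ φ ∈ others CF, F φ = ((mainL.map fun a : ℕ × Bool => g a.1).sum : ℤ) := by
    rw [Finset.sum_congr rfl (g := fun φ : IrrCharacter G => g (charDegree (φ : G → ℂ))) fun φ hφ =>
      hg φ (mem_others.1 hφ).1 (Or.inl (mem_others.1 hφ).2), Finset.sum_eq_multiset_sum,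
      ← Multiset.sum_coe, ← hd]
    rfl
  have h2 : ∑ φ ∈ YF, F φ = 2 * g 16 := by
    rw [Finset.sum_congr rfl (g := fun _ => g 16) fun φ hφ => by
      rw [hg φ (C.setup.not_triv hφ) (Or.inr hφ), C.setup.rows.YF_deg φ hφ],
      Finset.sum_const, C.setup.rows.card_YF]
    simp
  rw [h1, h2]
  simp only [mainL, rowDegs, List.map_cons, List.map_nil, List.sum_cons, List.sum_nil]
  ring

theorem charDegree_triv : charDegree ((trivChar : IrrCharacter G) : G → ℂ) = 1 := by
  have h := BlockB.irr_degree_cast (trivChar : IrrCharacter G)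
  rw [show ((trivChar : IrrCharacter G) : G → ℂ) 1 = 1 from rfl] at h
  exact_mod_cast h

/-- The squares of integral values at an element sum to the order of its centraliser. -/
theorem sum_sq_eq [Fintype (IrrCharacter G)] (g : G) (a : IrrCharacter G → ℤ)
    (ha : ∀ φ : IrrCharacter G, (φ : G → ℂ) g = a φ) :
    ∑ φ : IrrCharacter G, a φ * a φ = (Nat.card (Subgroup.centralizer ({g} : Set G)) : ℤ) := by
  classical
  have := Fintype.ofFinite G
  have hcol := Char.column_orthogonality g g
  rw [if_pos (IsConj.refl g)] at hcol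
  simp only [ha, map_intCast] at hcol
  exact_mod_cast hcol

/-- Integral values at a non-identity element are orthogonal to the degrees. -/
theorem sum_deg_eq [Fintype (IrrCharacter G)] {g : G} (hg : g ≠ 1) (a : IrrCharacter G → ℤ)
    (ha : ∀ φ : IrrCharacter G, (φ : G → ℂ) g = a φ) :
    ∑ φ : IrrCharacter G, (charDegree (φ : G → ℂ) : ℤ) * a φ = 0 := by
  classical
  have := Fintype.ofFinite G
  have hcol := Char.column_orthogonality g 1
  rw [if_neg (fun hc => hg (isConj_one_right.1 hc.symm))] at hcol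
  simp only [ha, ← BlockB.irr_degree_cast, Complex.conj_natCast] at hcol
  have e : ∑ φ : IrrCharacter G, a φ * (charDegree (φ : G → ℂ) : ℤ) = 0 := by exact_mod_cast hcol
  rw [← e]
  exact Finset.sum_congr rfl fun φ _ => mul_comm _ _

/-- The value at an element of order five, by degree. -/
def g5 (d : ℕ) : ℤ := if d % 5 = 4 then -1 else if d % 5 = 1 then 1 else 0

theorem exists_degrees (h : M12Nse.Hyp G) :
    (∃ χ : IrrCharacter G, 55 ∣ charDegree (χ : G → ℂ)) ∧
      ∃ χ : IrrCharacter G, 33 ∣ charDegree (χ : G → ℂ) := by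
  classical
  have hsimple : IsSimpleGroup G := M12Nse.simple h
  have : Fact (Nat.Prime 11) := ⟨by norm_num⟩
  have : Fact (Nat.Prime 5) := ⟨by norm_num⟩
  have := Fintype.ofFinite G
  have := Fintype.ofFinite (IrrCharacter G)
  obtain ⟨P⟩ : Nonempty (Sylow 11 G) := inferInstance
  have := Fintype.ofFinite (P : Subgroup G)
  obtain ⟨M, CF, YF, ε, C⟩ := exists_main h.card P
  set R := CF ∪ YF with hR
  set O := Rᶜ with hO
  -- degrees outside the rows
  have hk : ∀ φ ∈ O, ∃ k : ℕ, k ∣ 8640 ∧ charDegree (φ : G → ℂ) = 11 * k := by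
    intro φ hφ
    simp only [hO, hR, Finset.mem_compl, Finset.mem_union, not_or] at hφ
    obtain ⟨m, hm⟩ := exists_sum_subgroup (Char.irr_isCharacter φ.2) (P : Subgroup G)
    have hz : ∀ x ∈ (Finset.univ : Finset (P : Subgroup G)).erase 1, (φ : G → ℂ) x = 0 :=
      fun x hx => StructC.RowsTools.apply_eq_zero C.setup.modular C.setup.rows C.setup.card_P C.cent
        hφ.1 hφ.2 x.2 fun e => (Finset.mem_erase.1 hx).1 (Subtype.ext e)
    rw [← Finset.add_sum_erase _ _ (Finset.mem_univ (1 : (P : Subgroup G))),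
      Finset.sum_eq_zero hz, add_zero, Subgroup.coe_one, ← BlockB.irr_degree_cast,
      show Nat.card (P : Subgroup G) = 11 from C.setup.card_P] at hm
    have hm' : charDegree (φ : G → ℂ) = 11 * m := by exact_mod_cast hm
    refine ⟨m, ?_, hm'⟩
    have hd := BlockB.irr_degree_dvd_card φ
    rw [h.card, hm', show 95040 = 11 * 8640 from rfl] at hd
    exact Nat.dvd_of_mul_dvd_mul_left (by norm_num) hd
  choose! kk hkdvd hdeg using hk
  have hkpos : ∀ k ∈ ks, 0 < k := by decide
  -- sums over the two parts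
  have hsplit : ∀ F : IrrCharacter G → ℤ, ∑ φ, F φ = ∑ φ ∈ R, F φ + ∑ φ ∈ O, F φ :=
    fun F => (Finset.sum_add_sum_compl R F).symm
  have hS : ∑ φ ∈ O, (kk φ : ℤ) * kk φ = 450 := by
    have ht := hsplit fun χ => (charDegree (χ : G → ℂ) : ℤ) * charDegree (χ : G → ℂ)
    have hl : ∑ χ : IrrCharacter G, (charDegree (χ : G → ℂ) : ℤ) * charDegree (χ : G → ℂ) = 95040 := by
      have := BlockB.sum_degree_sq (G := G)
      rw [h.card] at this
      simp only [← sq]
      exact_mod_cast this
    have hr := row_sum C (fun χ => (charDegree (χ : G → ℂ) : ℤ) * charDegree (χ : G → ℂ))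
      (fun d => (d : ℤ) * d) fun _ _ _ => rfl
    simp only [charDegree_triv, rowDegs, List.map_cons, List.map_nil, List.sum_cons,
      List.sum_nil] at hr
    rw [hl, hr, Finset.sum_congr rfl (g := fun χ => 121 * ((kk χ : ℤ) * kk χ)) fun χ hχ => by
      rw [hdeg χ hχ]; push_cast; ring, ← Finset.mul_sum] at ht
    norm_num at ht
    linarith
  have hkk : ∀ φ ∈ O, kk φ ∈ ks := by
    intro φ hφ
    have hle := Finset.single_le_sum
      (f := fun χ : IrrCharacter G => (kk χ : ℤ) * kk χ) (fun i _ => mul_self_nonneg _) hφ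
    rw [hS] at hle
    have hlt : kk φ < 22 := by
      by_contra hcon
      have h22 : (22 : ℤ) ≤ kk φ := by exact_mod_cast not_lt.1 hcon
      nlinarith
    have hc := List.all_eq_true.1 mem_ks (kk φ) (List.mem_range.2 hlt)
    simpa [Nat.dvd_iff_mod_eq_zero.1 (hkdvd φ hφ)] using hc
  have hne : ∀ φ ∈ O, φ ≠ trivChar := fun φ hφ e => by
    simp only [hO, hR, Finset.mem_compl, Finset.mem_union, not_or] at hφ
    exact hφ.1 (e ▸ C.setup.rows.one_mem)
  -- the element of order five
  obtain ⟨y, hy⟩ := exists_prime_orderOf_dvd_card' (G := G) 5 (by rw [h.card]; norm_num)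
  have hy1 : y ≠ 1 := fun e => by rw [e, orderOf_one] at hy; norm_num at hy
  have hpow : ∀ j : ℕ, ¬ 5 ∣ j → ∀ φ : IrrCharacter G, (φ : G → ℂ) (y ^ j) = (φ : G → ℂ) y := by
    intro j hj φ
    have ho : orderOf (y ^ j) = 5 := by
      rw [orderOf_pow, hy, Nat.Coprime.gcd_eq_one ((Nat.Prime.coprime_iff_not_dvd
        (by norm_num)).2 hj), Nat.div_one]
    obtain ⟨g, hg⟩ := isConj_iff.1 (isConj_five h hy ho)
    rw [← hg]
    exact Char.irr_isClassFunction φ.2 y g
  have hint : ∀ φ : IrrCharacter G, ∃ m : ℤ, (φ : G → ℂ) y = m := fun φ =>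
    exists_int_value (Char.irr_isCharacter φ.2) fun j hj => hpow j
      (fun hd => by
        have := Nat.dvd_gcd hd (show 5 ∣ Nat.card G by rw [h.card]; norm_num)
        rw [hj] at this
        norm_num at this) φ
  choose a ha using hint
  have hcong : ∀ φ : IrrCharacter G, (5 : ℤ) ∣ (charDegree (φ : G → ℂ) : ℤ) - a φ := fun φ =>
    dvd_degree_sub (p := 5) hy fun j hj => (hpow j hj φ).trans (ha φ)
  have hA := sum_sq_eq y a ha
  rw [M12Nse.card_cent_five h hy] at hA
  have hbd : ∀ φ : IrrCharacter G, a φ * a φ ≤ 10 := fun φ => by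
    have := Finset.single_le_sum (f := fun χ : IrrCharacter G => a χ * a χ)
      (fun i _ => mul_self_nonneg _) (Finset.mem_univ φ)
    rw [hA] at this
    exact this
  have hrowval : ∀ φ : IrrCharacter G, φ ≠ trivChar → (φ ∈ CF ∨ φ ∈ YF) →
      a φ = g5 (charDegree (φ : G → ℂ)) := by
    intro φ hn hφ
    have hD := C.deg_main hn hφ
    have h1 := hcong φ
    have h2 := hbd φ
    have h3 : -3 ≤ a φ ∧ a φ ≤ 3 := ⟨by nlinarith, by nlinarith⟩
    obtain ⟨h4, h5⟩ := h3
    simp only [mainDegs, List.mem_cons, List.not_mem_nil, or_false] at hD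
    rcases hD with e | e | e | e | e <;> rw [e] at h1 ⊢ <;>
      interval_cases hv : a φ <;> simp_all [g5]
  have hatriv : a trivChar = 1 := by
    have := ha trivChar
    rw [show ((trivChar : IrrCharacter G) : G → ℂ) y = 1 from rfl] at this
    exact_mod_cast this.symm
  have hu5 : ∑ φ ∈ O, a φ * a φ = 5 := by
    have ht := hsplit fun χ => a χ * a χ
    have hr := row_sum C (fun χ => a χ * a χ) (fun d => g5 d * g5 d) fun φ hn hφ => by
      rw [hrowval φ hn hφ]
    simp only [hatriv, rowDegs, g5, List.map_cons, List.map_nil, List.sum_cons,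
      List.sum_nil] at hr
    rw [hA, hr] at ht
    norm_num at ht
    linarith
  have hku : ∑ φ ∈ O, (kk φ : ℤ) * a φ = 15 := by
    have ht := hsplit fun χ => (charDegree (χ : G → ℂ) : ℤ) * a χ
    have hr := row_sum C (fun χ => (charDegree (χ : G → ℂ) : ℤ) * a χ) (fun d => (d : ℤ) * g5 d)
      fun φ hn hφ => by rw [hrowval φ hn hφ]
    simp only [hatriv, charDegree_triv, rowDegs, g5, List.map_cons, List.map_nil, List.sum_cons,
      List.sum_nil] at hr
    rw [sum_deg_eq hy1 a ha, hr, Finset.sum_congr rfl (g := fun χ => 11 * ((kk χ : ℤ) * a χ))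
      fun χ hχ => by rw [hdeg χ hχ]; push_cast; ring, ← Finset.mul_sum] at ht
    norm_num at ht
    linarith
  have hmem5 : ∀ φ ∈ O, a φ ∈ us (kk φ) := by
    intro φ hφ
    have h1 := hcong φ
    rw [hdeg φ hφ] at h1
    have hle : a φ * a φ ≤ 5 := by
      rw [← hu5]
      exact Finset.single_le_sum (f := fun χ : IrrCharacter G => a χ * a χ)
        (fun i _ => mul_self_nonneg _) hφ
    have h3 : -2 ≤ a φ ∧ a φ ≤ 2 := ⟨by nlinarith, by nlinarith⟩
    refine List.mem_filter.2 ⟨?_, decide_eq_true ?_⟩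
    · simp only [List.mem_cons, List.not_mem_nil, or_false]; omega
    · exact Int.emod_eq_emod_iff_emod_sub_eq_zero.2 (Int.emod_eq_zero_of_dvd h1)
  refine ⟨?_, ?_⟩
  · by_contra hno
    push Not at hno
    have hs := scan_sound (fun φ : IrrCharacter G => (kk φ, a φ, (0 : ℤ)))
      (optsY fun k => decide (k % 5 ≠ 0)) O (fun φ hφ => List.mem_flatMap.2 ⟨kk φ,
        List.mem_filter.2 ⟨hkk φ hφ, decide_eq_true fun e => hno φ (by
          rw [hdeg φ hφ]; exact Nat.mul_dvd_mul_left 11 (Nat.dvd_of_mod_eq_zero e))⟩,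
        List.mem_map.2 ⟨a φ, hmem5 φ hφ, rfl⟩⟩) (by decide +kernel)
    simp only [hS, hku, hu5, mul_zero, Finset.sum_const_zero] at hs
    rw [check_five] at hs
    exact Bool.false_ne_true hs
  · -- the involution centralising it
    obtain ⟨s, hs2, hsy, -⟩ := M12Nse.exists_invol_five h hy
    have hs1 : s ≠ 1 := fun e => by rw [e, orderOf_one] at hs2; norm_num at hs2
    obtain ⟨m, hcm, hm⟩ := M12Nse.Ctx.card_C_eq ⟨h, y, s, hy, hs2, hsy⟩
    change Nat.card (Subgroup.centralizer ({s} : Set G)) = 40 * m at hcm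
    obtain ⟨r, hr, hV⟩ := C.exists_invol_vals hs2
    set c := Nat.card (Subgroup.centralizer ({s} : Set G)) with hc
    have hc' : c ∈ [240, 1440] := by
      simp only [List.mem_cons, List.not_mem_nil, or_false]; omega
    have hcol := List.all_eq_true.1 (List.all_eq_true.1 check_cols c hc') r hr
    simp only [decide_eq_true_eq] at hcol
    set col := rowDegs.map (valOf r) with hcolDef
    have hint : ∀ φ : IrrCharacter G, ∃ v : ℤ, (φ : G → ℂ) s = v := fun φ =>
      exists_int_value (Char.irr_isCharacter φ.2) fun j hj => by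
        obtain ⟨i, rfl⟩ : Odd j := Nat.not_even_iff_odd.1 fun he => by
          have := Nat.dvd_gcd he.two_dvd (show 2 ∣ Nat.card G by rw [h.card]; norm_num)
          rw [hj] at this
          norm_num at this
        rw [pow_succ, pow_mul, show s ^ 2 = 1 by rw [← hs2, pow_orderOf_eq_one], one_pow, one_mul]
    choose b hb using hint
    have hB := sum_sq_eq s b hb
    have hbrow : ∀ φ : IrrCharacter G, φ ≠ trivChar → (φ ∈ CF ∨ φ ∈ YF) →
        b φ = valOf r (charDegree (φ : G → ℂ)) := fun φ hn hφ => by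
      have := (hb φ).symm.trans (hV φ hn hφ)
      exact_mod_cast this
    have hbtriv : b trivChar = 1 := by
      have := hb trivChar
      rw [show ((trivChar : IrrCharacter G) : G → ℂ) s = 1 from rfl] at this
      exact_mod_cast this.symm
    have hQ : ∑ φ ∈ O, b φ * b φ = rest c col := by
      have ht := hsplit fun χ => b χ * b χ
      have hr' := row_sum C (fun χ => b χ * b χ) (fun d => valOf r d * valOf r d) fun φ hn hφ => by
        rw [hbrow φ hn hφ]
      rw [hB, hr', hbtriv] at ht
      simp only [rest, hcolDef, List.map_map, Function.comp_def] at ht ⊢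
      linarith
    have hM : ∑ φ ∈ O, (11 : ℤ) * ((kk φ : ℤ) * b φ) = tgt col := by
      have ht := hsplit fun χ => (charDegree (χ : G → ℂ) : ℤ) * b χ
      have hr' := row_sum C (fun χ => (charDegree (χ : G → ℂ) : ℤ) * b χ)
        (fun d => (d : ℤ) * valOf r d) fun φ hn hφ => by rw [hbrow φ hn hφ]
      rw [sum_deg_eq hs1 b hb, hr', hbtriv, charDegree_triv,
        Finset.sum_congr rfl (g := fun χ => 11 * ((kk χ : ℤ) * b χ))
          fun χ hχ => by rw [hdeg χ hχ]; push_cast; ring] at ht
      simp only [tgt, hcolDef, rowDegs, List.map_cons, List.map_nil, List.sum_cons, List.sum_nil,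
        List.zip_cons_cons, List.zip_nil_right, Nat.cast_one, one_mul] at ht ⊢
      linarith
    rw [← Finset.mul_sum] at hM
    have hdiv : tgt col / 11 = ∑ φ ∈ O, (kk φ : ℤ) * b φ := by
      rw [← hM, Int.mul_ediv_cancel_left _ (by norm_num)]
    have hmod : tgt col % 11 = 0 := by rw [← hM]; exact Int.mul_emod_right _ _
    have hch := List.all_eq_true.1 check_three (c, col) hcol
    simp only [threeOK, Bool.or_eq_true, decide_eq_true_eq, Bool.not_eq_true', hmod, ne_eq, not_true,
      false_or] at hch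
    have hrest : ∀ x ∈ rowCols, rest x.1 x.2 ≤ 1369 := by decide +kernel
    have hmemv : ∀ φ ∈ O, b φ ∈ vs c (rest c col) (kk φ) := by
      intro φ hφ
      have hle : b φ * b φ ≤ rest c col := by
        rw [← hQ]
        exact Finset.single_le_sum (f := fun χ : IrrCharacter G => b χ * b χ)
          (fun i _ => mul_self_nonneg _) hφ
      refine List.mem_filter.2 ⟨mem_around (b := 37)
        (by have := hrest _ hcol; push_cast; simp only at this; linarith), ?_⟩
      obtain ⟨v, hvq, hvv⟩ := invol_value h.card φ (hne φ hφ) hs2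
      have hbv : b φ = v := by exact_mod_cast (hb φ).symm.trans hvv
      obtain ⟨i, -, hi⟩ := List.mem_map.1 hvq
      have hix := dvd_index_mul φ (hb φ)
      have hidx := Subgroup.index_mul_card (Subgroup.centralizer ({s} : Set G))
      rw [h.card, ← hc] at hidx
      have hidx' : (Subgroup.centralizer ({s} : Set G)).index = 95040 / c := by
        rw [← hidx, Nat.mul_div_cancel _ (by omega)]
      rw [hidx', hdeg φ hφ] at hix
      rw [hdeg φ hφ] at hi
      simp only [Bool.and_eq_true, decide_eq_true_eq]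
      exact ⟨⟨hle, by omega⟩, Int.emod_eq_zero_of_dvd hix⟩
    by_contra hno
    push Not at hno
    have hsc := scan_sound (fun φ : IrrCharacter G => (kk φ, a φ, b φ))
      (opts (fun k => decide (k % 3 ≠ 0)) c (rest c col)) O
      (fun φ hφ => List.mem_flatMap.2 ⟨kk φ,
        List.mem_filter.2 ⟨hkk φ hφ, decide_eq_true fun e => hno φ (by
          rw [hdeg φ hφ]; exact Nat.mul_dvd_mul_left 11 (Nat.dvd_of_mod_eq_zero e))⟩,
        List.mem_flatMap.2 ⟨a φ, hmem5 φ hφ, List.mem_map.2 ⟨b φ, hmemv φ hφ, rfl⟩⟩⟩)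
      (fun o ho => by
        simp only [opts, List.mem_flatMap, List.mem_filter, List.mem_map] at ho
        obtain ⟨k, ⟨hk, -⟩, u, -, v, -, rfl⟩ := ho
        exact hkpos k hk)
    simp only [hS, hku, hu5, hQ, ← hdiv] at hsc
    rw [hch] at hsc
    exact Bool.false_ne_true hsc

end CfsgLib.ClassK.M12Graph
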