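import Cfsg.Agent.Lib.ClassK.RowSieve
import Cfsg.Agent.Lib.Recog.OrderM12.Values
import Cfsg.Agent.Lib.ClassK.M12Nse.Count
import Cfsg.Agent.Lib.Coprime.Sylow

/-!
No simple group has order `11880`, `15840`, `23760`, `31680` or `47520`.
-/

set_option autoImplicit false
set_option linter.style.haveILetI false
set_option synthInstance.maxSize 2000
set_option maxHeartbeats 1000000

namespace CfsgLib.ClassK.M12Graph

open Cfsg CfsgLib CfsgLib.Block CfsgLib.ClassK.RowSieve CfsgLib.Recog.OrderM12 Subgroup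
open scoped ComplexConjugate

universe u

/-- The orders, with a bound on the degrees. -/
def five : List (ℕ × ℕ) := [(11880, 109), (15840, 126), (23760, 155), (31680, 178), (47520, 218)]

theorem some_row : (five.all fun a => !rowPossible a.1 11 a.2 (fun _ _ => true)
    (fun d => decide (d ≠ 10) && decide (d ≠ 45)) (fun _ => true)) = true := by
  decide +kernel

theorem row_ten : (five.all fun a => !rowPossible a.1 11 a.2
    (fun np e => decide (e % 2 = 1) || decide (np * e * 11 ≠ a.1)) (fun _ => true)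
    (fun d => decide (d = 10))) = true := by
  decide +kernel

theorem row_fortyfive : (five.all fun a => !rowPossible a.1 11 a.2
    (fun np e => decide (e % 5 ≠ 0) || decide (6 < a.1 / (np * e * 11))) (fun _ => true)
    (fun d => decide (d = 45))) = true := by
  decide +kernel

theorem self_cent_auto : (five.all fun a => !rowPossible a.1 11 a.2
    (fun np e => decide (np * e * 11 = a.1) && decide (e ≠ 10)) (fun d => decide (d ≠ 10))
    (fun _ => true)) = true := by
  decide +kernel

theorem self_cent_degs : (five.all fun a => !rowPossible a.1 11 a.2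
    (fun np e => decide (np * e * 11 = a.1)) (fun d => decide (d ≠ 10))
    (fun d => decide (d ≠ 12) && decide (d ≠ 32) && decide (d ≠ 45))) = true := by
  decide +kernel

variable {G : Type u} [Group G] [Finite G]

/-- The sums of a character over a dihedral subgroup bound the value at an inverting involution. -/
theorem inv_bound {χ : G → ℂ} (hχ : IsCharacter G χ) (hcl : ∀ a g : G, χ (g * a * g⁻¹) = χ a)
    {x u : G} (hx : orderOf x = 11) (hu : orderOf u = 2) (hinv : u * x * u⁻¹ = x⁻¹) {d ε v : ℤ}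
    (h1 : χ 1 = d) (hv : χ u = v) (hxv : ∀ j : ℕ, ¬ 11 ∣ j → χ (x ^ j) = ε) :
    -(d + 10 * ε) ≤ 11 * v ∧ 11 * v ≤ d + 10 * ε := by
  classical
  have huu : u * u = 1 := by rw [← sq, ← hu, pow_orderOf_eq_one]
  have hui : u⁻¹ = u := inv_eq_of_mul_eq_one_right huu
  have hux : ∀ i : ℤ, u * x ^ i = x ^ (-i) * u := fun i => by
    have : (u * x * u⁻¹) ^ i = u * x ^ i * u⁻¹ := conj_zpow
    rw [hinv, inv_zpow, ← zpow_neg] at this
    rw [this]
    group
  let D : Subgroup G :=
    { carrier := {g | ∃ i : ℤ, g = x ^ i ∨ g = x ^ i * u}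
      one_mem' := ⟨0, Or.inl (zpow_zero x).symm⟩
      mul_mem' := by
        rintro a b ⟨i, rfl | rfl⟩ ⟨j, rfl | rfl⟩
        · exact ⟨i + j, Or.inl (zpow_add x i j).symm⟩
        · exact ⟨i + j, Or.inr (by rw [← mul_assoc, ← zpow_add])⟩
        · exact ⟨i + -j, Or.inr (by rw [mul_assoc, hux, ← mul_assoc, ← zpow_add])⟩
        · exact ⟨i + -j, Or.inl (by
            rw [mul_assoc (x ^ i), ← mul_assoc u, hux, mul_assoc, huu, mul_one, ← zpow_add])⟩
      inv_mem' := by
        rintro a ⟨i, rfl | rfl⟩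
        · exact ⟨-i, Or.inl (zpow_neg x i).symm⟩
        · exact ⟨i, Or.inr (by rw [mul_inv_rev, hui, ← zpow_neg, hux, neg_neg])⟩ }
  have huP : u ∉ zpowers x := fun h => by
    have := Subgroup.orderOf_dvd_natCard _ h
    rw [Nat.card_zpowers, hx, hu] at this
    norm_num at this
  let f : Fin 11 × Bool → D := fun p =>
    ⟨if p.2 then x ^ (p.1 : ℕ) * u else x ^ (p.1 : ℕ), ((p.1 : ℕ) : ℤ), by
      cases p.2 <;> simp⟩
  have hinjpow : ∀ a b : Fin 11, x ^ (a : ℕ) = x ^ (b : ℕ) → a = b := fun a b h => by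
    have := pow_injOn_Iio_orderOf (x := x) (by rw [Set.mem_Iio, hx]; exact a.2)
      (by rw [Set.mem_Iio, hx]; exact b.2) h
    exact Fin.ext this
  have hf : Function.Bijective f := by
    constructor
    · rintro ⟨a, p⟩ ⟨b, q⟩ e
      have e' := congrArg Subtype.val e
      cases p <;> cases q <;> simp only [f, if_true, Bool.false_eq_true, if_false] at e'
      · rw [hinjpow a b e']
      · exfalso; apply huP
        rw [eq_inv_mul_iff_mul_eq.2 e'.symm]
        exact mul_mem (inv_mem (pow_mem (mem_zpowers x) _)) (pow_mem (mem_zpowers x) _)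
      · exfalso; apply huP
        rw [eq_inv_mul_iff_mul_eq.2 e']
        exact mul_mem (inv_mem (pow_mem (mem_zpowers x) _)) (pow_mem (mem_zpowers x) _)
      · rw [hinjpow a b (mul_right_cancel e')]
    · rintro ⟨g, i, hg⟩
      obtain ⟨n, hn, hn'⟩ : ∃ n : ℕ, n < 11 ∧ x ^ i = x ^ n := by
        refine ⟨(i % 11).toNat, by omega, ?_⟩
        rw [← zpow_natCast, Int.toNat_of_nonneg (by omega), ← zpow_mod_orderOf x i, hx]
        rfl
      rcases hg with rfl | rfl
      · exact ⟨(⟨n, hn⟩, false), Subtype.ext (by simp [f, hn'])⟩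
      · exact ⟨(⟨n, hn⟩, true), Subtype.ext (by simp [f, hn'])⟩
  have hcard : Nat.card D = 22 := by
    rw [← Nat.card_eq_of_bijective f hf]; simp
  have hxu : ∀ n : ℕ, χ (x ^ n * u) = v := fun n => by
    have hx11 : x ^ (11 * n : ℕ) = 1 := by rw [pow_mul, ← hx, pow_orderOf_eq_one, one_pow]
    have e : x ^ ((6 * n : ℕ) : ℤ) * u * (x ^ ((6 * n : ℕ) : ℤ))⁻¹ = x ^ n * u := by
      rw [mul_assoc, ← zpow_neg, hux, neg_neg, ← mul_assoc, ← zpow_add,
        show ((6 * n : ℕ) : ℤ) + ((6 * n : ℕ) : ℤ) = ((11 * n + n : ℕ) : ℤ) by push_cast; ring,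
        zpow_natCast, pow_add, hx11, one_mul]
    rw [← e, hcl, hv]
  have := Fintype.ofFinite D
  have hA : ∑ a : Fin 11, χ (x ^ (a : ℕ)) = d + 10 * ε := by
    rw [Fin.sum_univ_succ, Finset.sum_congr rfl (g := fun _ => (ε : ℂ)) fun (a : Fin 10) _ =>
      hxv _ (by simp only [Fin.val_succ]; omega)]
    simp [h1]
  have hsum : ∀ w : Bool → ℂ, ∑ p : Fin 11 × Bool, χ (f p : G) * w p.2 =
      ((d + 10 * ε : ℤ) : ℂ) * w false + 11 * (v : ℂ) * w true := fun w => by
    rw [Fintype.sum_prod_type]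
    simp only [Fintype.sum_bool, f, if_true, Bool.false_eq_true, if_false, Finset.sum_add_distrib,
      hxu, ← Finset.sum_mul, hA]
    simp only [Finset.sum_const, Finset.card_univ, Fintype.card_fin, nsmul_eq_mul]
    push_cast
    ring
  have hmemu : ∀ i : ℤ, x ^ i * u ∉ zpowers x := fun i h =>
    huP (by simpa using mul_mem (inv_mem (zpow_mem (mem_zpowers x) i)) h)
  have hmz : ∀ i : ℤ, x ^ i ∈ zpowers x := fun i => zpow_mem (mem_zpowers x) i
  let s : G → ℂˣ := fun g => if g ∈ zpowers x then 1 else -1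
  have s1 : ∀ i : ℤ, s (x ^ i) = 1 := fun i => if_pos (hmz i)
  have s2 : ∀ i : ℤ, s (x ^ i * u) = -1 := fun i => if_neg (hmemu i)
  let θ : D →* ℂˣ :=
    { toFun := fun g => s (g : G)
      map_one' := if_pos (one_mem _)
      map_mul' := by
        rintro ⟨a, i, rfl | rfl⟩ ⟨b, j, rfl | rfl⟩ <;>
          simp only [MulMemClass.mk_mul_mk, Subgroup.coe_mul]
        · rw [← zpow_add, s1, s1, s1, one_mul]
        · rw [← mul_assoc (x ^ i), ← zpow_add, s1, s2, s2, one_mul]
        · rw [mul_assoc (x ^ i), hux, ← mul_assoc, ← zpow_add, s1, s2, s2, mul_one]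
        · rw [mul_assoc (x ^ i), ← mul_assoc u, hux, mul_assoc, huu, mul_one, ← zpow_add, s1, s2, s2,
            neg_mul_neg, one_mul] }
  have hres := Char.isCharacter_comp hχ D.subtype
  obtain ⟨m1, hm1⟩ := Char.classInner_isCharacter_nat hres Char.isCharacter_one
  obtain ⟨m2, hm2⟩ := Char.classInner_isCharacter_nat hres
    (Char.irr_isCharacter (Char.isIrrCharacter_linear θ))
  rw [Char.classInner_def, hcard, inv_mul_eq_iff_eq_mul₀ (by norm_num)] at hm1 hm2
  have e1 := hsum fun _ => 1
  have e2 := hsum fun b => if b then -1 else 1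
  have hθ : ∀ p : Fin 11 × Bool, conj ((θ (f p) : ℂˣ) : ℂ) = if p.2 then -1 else 1 := by
    rintro ⟨a, b⟩
    cases b
    · simp [θ, s, f, pow_mem (mem_zpowers x)]
    · have h := hmemu ((a : ℕ) : ℤ)
      rw [zpow_natCast] at h
      simp [θ, s, f, h]
  rw [← (Equiv.ofBijective f hf).sum_comp] at hm1 hm2
  simp only [Equiv.ofBijective_apply, Function.comp_apply, coe_subtype, map_one, mul_one] at hm1 hm2
  simp only [hθ] at hm2
  simp only [mul_one] at e1
  rw [e1] at hm1
  rw [e2] at hm2
  simp only [if_true, Bool.false_eq_true, if_false] at hm2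
  have i1 : d + 10 * ε + 11 * v = 22 * (m1 : ℤ) := by
    have : ((d + 10 * ε + 11 * v : ℤ) : ℂ) = ((22 * (m1 : ℤ) : ℤ) : ℂ) := by
      push_cast at hm1 ⊢; linear_combination hm1
    exact_mod_cast this
  have i2 : d + 10 * ε - 11 * v = 22 * (m2 : ℤ) := by
    have : ((d + 10 * ε - 11 * v : ℤ) : ℂ) = ((22 * (m2 : ℤ) : ℤ) : ℂ) := by
      push_cast at hm2 ⊢; linear_combination hm2
    exact_mod_cast this
  constructor <;> omega

/-- Invariance of the automizer order among the Sylow subgroups. -/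
theorem relIndex_eq [Fact (Nat.Prime 11)] (h11 : 11 ∣ Nat.card G) (h121 : ¬ 11 ^ 2 ∣ Nat.card G)
    (P Q : Sylow 11 G) :
    (centralizer ((Q : Subgroup G) : Set G)).relIndex (normalizer ((Q : Subgroup G) : Set G)) =
      (centralizer ((P : Subgroup G) : Set G)).relIndex (normalizer ((P : Subgroup G) : Set G)) := by
  have := Fintype.ofFinite G
  have hmul : ∀ R : Sylow 11 G, Nat.card (Sylow 11 G) *
      ((centralizer ((R : Subgroup G) : Set G)).relIndex (normalizer ((R : Subgroup G) : Set G)) *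
        Nat.card (centralizer ((R : Subgroup G) : Set G))) = Nat.card G := fun R => card_config R
  obtain ⟨g, rfl⟩ := MulAction.exists_smul_eq G P Q
  have hP : Nat.card (P : Subgroup G) = 11 := CfsgLib.Transfer.card_sylow_eq_prime P h11 h121
  obtain ⟨x, hx, hx1⟩ : ∃ x ∈ (P : Subgroup G), x ≠ 1 := by
    refine Subgroup.bot_or_exists_ne_one _ |>.resolve_left fun h' => ?_
    rw [h', Subgroup.card_bot] at hP
    norm_num at hP
  have hgx : g * x * g⁻¹ ∈ ((g • P : Sylow 11 G) : Subgroup G) := by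
    rw [Sylow.coe_subgroup_smul]; exact ⟨x, hx, rfl⟩
  have hc : Nat.card (centralizer (((g • P : Sylow 11 G) : Subgroup G) : Set G)) =
      Nat.card (centralizer ((P : Subgroup G) : Set G)) := by
    rw [← BrauerReynolds.centralizer_mem_eq (g • P) (CfsgLib.Transfer.card_sylow_eq_prime _ h11 h121) hgx
        (fun h' => hx1 (by simpa using h')),
      CfsgLib.Transfer.card_centralizer_conj, BrauerReynolds.centralizer_mem_eq P hP hx hx1]
  have h1 := (hmul (g • P)).trans (hmul P).symm
  rw [hc] at h1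
  exact Nat.eq_of_mul_eq_mul_right Nat.card_pos (Nat.eq_of_mul_eq_mul_left Nat.card_pos h1)

theorem no_five [IsSimpleGroup G] (hG : ¬ IsMulCommutative G) {a : ℕ × ℕ} (ha : a ∈ five)
    (hn : Nat.card G = a.1) : False := by
  classical
  have : Fact (Nat.Prime 11) := ⟨by norm_num⟩
  have : Fact (Nat.Prime 5) := ⟨by norm_num⟩
  have := Fintype.ofFinite G
  have := Fintype.ofFinite (IrrCharacter G)
  have hprop : a.1 < a.2 * a.2 ∧ 11 ∣ a.1 ∧ ¬ 11 ^ 2 ∣ a.1 ∧ 5 ∣ a.1 ∧ ¬ 25 ∣ a.1 :=
    (by decide : ∀ b ∈ five, b.1 < b.2 * b.2 ∧ 11 ∣ b.1 ∧ ¬ 11 ^ 2 ∣ b.1 ∧ 5 ∣ b.1 ∧ ¬ 25 ∣ b.1) a ha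
  obtain ⟨hB, h11, h121, h5, h25⟩ := hprop
  obtain ⟨M, hM⟩ := BlockB.exists_isPModular (p := 11) Fact.out
  have hperf := CfsgLib.Transfer.commutator_eq_top_of_simple hG
  obtain ⟨P⟩ : Nonempty (Sylow 11 G) := inferInstance
  have hP : Nat.card (P : Subgroup G) = 11 :=
    CfsgLib.Transfer.card_sylow_eq_prime P (hn.symm ▸ h11) (hn.symm ▸ h121)
  obtain ⟨e, t, d₀, σ, CF, YF, ε, D⟩ := exists_rows hperf hM P hP
  set np := Nat.card (Sylow 11 G) with hnpdef
  set C := centralizer ((P : Subgroup G) : Set G) with hC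
  set N := normalizer ((P : Subgroup G) : Set G) with hN
  have hcfg : np * (e * Nat.card C) = a.1 := by rw [← hn, ← D.e_eq]; exact card_config P
  have hsel : ∀ sel : ℕ → ℕ → Bool, sel np e = true → ∀ Q : Sylow 11 G, sel np
      ((centralizer ((Q : Subgroup G) : Set G)).relIndex (normalizer ((Q : Subgroup G) : Set G))) =
        true := fun sel h Q => by
    rw [relIndex_eq (hn.symm ▸ h11) (hn.symm ▸ h121) P Q, D.e_eq]; exact h
  let one : IrrCharacter G := ⟨fun _ => 1, Char.isIrrCharacter_one⟩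
  obtain ⟨χ₀, hχ₀, hχ₀ne⟩ : ∃ χ ∈ CF, χ ≠ one := by
    refine Finset.exists_mem_ne ?_ _
    rw [D.card_CF]
    have := D.e_two
    split_ifs <;> omega
  have hblock : ∀ φ ∈ CF, φ ∈ principalBlock M G := fun φ hφ => (D.mem φ).2 (Or.inl hφ)
  have hrow : ∀ φ : IrrCharacter G, φ ∈ principalBlock M G → φ ≠ one →
      (∀ (sel : ℕ → ℕ → Bool) (allow want : ℕ → Bool), sel np e = true →
        (∀ ψ : IrrCharacter G, ψ ∈ principalBlock M G → ψ ≠ one →
          allow (charDegree (ψ : G → ℂ)) = true) →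
        want (charDegree (φ : G → ℂ)) = true → rowPossible a.1 11 a.2 sel allow want = true) :=
    fun φ hφ hne sel allow want h1 h2 h3 => rowPossible_of_mem hG hn hB h11 h121 hM φ hφ
      (fun h => hne (Subtype.ext h)) sel (hsel sel h1) allow
      (fun ψ hψ hψ1 => h2 ψ hψ fun h => hψ1 (congrArg Subtype.val h)) want h3
  have hPC : (P : Subgroup G) ≤ C := by
    have : IsCyclic (P : Subgroup G) := isCyclic_of_prime_card hP
    intro b hb
    exact Subgroup.mem_centralizer_iff.2 fun c hc => congrArg Subtype.val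
      ((IsCyclic.commGroup (α := (P : Subgroup G))).mul_comm ⟨c, hc⟩ ⟨b, hb⟩)
  obtain ⟨x, hxP, hx1⟩ : ∃ x ∈ (P : Subgroup G), x ≠ 1 := by
    refine Subgroup.bot_or_exists_ne_one _ |>.resolve_left fun h' => ?_
    rw [h', Subgroup.card_bot] at hP
    norm_num at hP
  have hxo : orderOf x = 11 := by
    have hd := Subgroup.orderOf_dvd_natCard (P : Subgroup G) hxP
    rw [hP] at hd
    exact ((Nat.dvd_prime Fact.out).1 hd).resolve_left fun h' => hx1 (orderOf_eq_one_iff.1 h')
  have hPx : zpowers x = (P : Subgroup G) := Subgroup.eq_of_le_of_card_ge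
    (Subgroup.zpowers_le.2 hxP) (by rw [hP, Nat.card_zpowers, hxo])
  have hpowP : ∀ j : ℕ, ¬ 11 ∣ j → x ^ j ∈ (P : Subgroup G) ∧ x ^ j ≠ 1 := fun j hj =>
    ⟨pow_mem hxP j, fun h => hj (hxo ▸ orderOf_dvd_of_pow_eq_one h)⟩
  have hNcard : Nat.card N = e * Nat.card C := by
    have h1 : np * Nat.card N = a.1 := by
      rw [← hn, hnpdef, Sylow.card_eq_index_normalizer P]; exact Subgroup.index_mul_card _
    exact Nat.eq_of_mul_eq_mul_left Nat.card_pos (h1.trans hcfg.symm)
  have hdeg_row : ∀ φ : IrrCharacter G, φ ∈ principalBlock M G →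
      (charDegree (φ : G → ℂ) = 10 ∨ charDegree (φ : G → ℂ) = 45) → e ∈ [2, 5, 10] → φ ∈ CF := by
    intro φ hφ hd he
    refine ((D.mem φ).1 hφ).resolve_right fun hY => ?_
    have ht : t ≠ 1 := fun ht => by
      have := Finset.card_pos.2 ⟨φ, hY⟩
      rw [D.card_YF, if_pos ht] at this
      exact absurd this (lt_irrefl 0)
    have hm := D.d₀_mod ht
    rw [← D.YF_deg φ hY] at hm
    simp only [List.mem_cons, List.not_mem_nil, or_false] at he
    rcases D.sign with hs | hs <;> rw [hs] at hm <;> rcases hd with h | h <;> rw [h] at hm <;>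
      rcases he with rfl | rfl | rfl <;> first | omega | (have := D.hte; omega)
  have he : e ∈ [2, 5, 10] := by
    have h1 := D.hte
    have h2 := D.e_two
    have h3 : e ∣ 10 := ⟨t, by rw [mul_comm]; omega⟩
    have := Nat.le_of_dvd (by norm_num) h3
    simp only [List.mem_cons, List.not_mem_nil, or_false]
    interval_cases e <;> omega
  -- an involution inverting the Sylow subgroup
  have hinvol : Nat.card C = 11 → e % 2 = 0 →
      ∃ u : G, orderOf u = 2 ∧ u * x * u⁻¹ = x⁻¹ := by
    intro hC11 he2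
    obtain ⟨⟨u, huN⟩, hu⟩ := exists_prime_orderOf_dvd_card' (G := N) 2
      (hNcard ▸ Dvd.dvd.mul_right (Nat.dvd_of_mod_eq_zero he2) _)
    rw [Subgroup.orderOf_mk] at hu
    refine ⟨u, hu, ?_⟩
    have huu : u * u = 1 := by rw [← sq, ← hu, pow_orderOf_eq_one]
    have hmem : u * x * u⁻¹ ∈ (P : Subgroup G) := (mem_normalizer_iff.1 huN x).1 hxP
    rw [← hPx] at hmem
    obtain ⟨k, hk⟩ := mem_zpowers_iff.1 hmem
    have h2 : x ^ (k * k) = x := by
      rw [zpow_mul, hk, conj_zpow, hk, inv_eq_of_mul_eq_one_right huu]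
      rw [show u * (u * x * u) * u = u * u * x * (u * u) by group, huu, one_mul, mul_one]
    have h3 : (11 : ℤ) ∣ k * k - 1 := by
      have := orderOf_dvd_iff_zpow_eq_one.2
        (show x ^ (k * k - 1) = 1 by rw [zpow_sub_one, h2, mul_inv_cancel])
      rwa [hxo] at this
    rcases (Int.prime_iff_natAbs_prime.2 (by norm_num : (11 : ℤ).natAbs.Prime)).dvd_or_dvd
        (show (11 : ℤ) ∣ (k - 1) * (k + 1) by rw [show (k - 1) * (k + 1) = k * k - 1 by ring]; exact h3)
      with h | h
    · exfalso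
      have hux : u * x * u⁻¹ = x := by
        rw [← hk, ← sub_add_cancel k 1, zpow_add_one,
          orderOf_dvd_iff_zpow_eq_one.1 (by rw [hxo]; exact h), one_mul]
      have huC : u ∈ C := by
        rw [hC, ← BrauerReynolds.centralizer_mem_eq P hP hxP hx1]
        exact mem_centralizer_singleton_iff.2 (mul_inv_eq_iff_eq_mul.1 hux)
      have := Subgroup.orderOf_dvd_natCard _ huC
      rw [hC11, hu] at this
      norm_num at this
    · rw [← hk, ← add_sub_cancel_right k 1, zpow_sub, zpow_one,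
        orderOf_dvd_iff_zpow_eq_one.1 (by rw [hxo]; exact h), one_mul]
  have hinval : ∀ {u : G}, orderOf u = 2 → ∀ φ : IrrCharacter G, φ ≠ one →
      ∃ v : ℤ, (φ : G → ℂ) u = v ∧ (4 : ℤ) ∣ (charDegree (φ : G → ℂ) : ℤ) - v := by
    intro u hu φ hne
    have hu1 : u ≠ 1 := fun h => by rw [h, orderOf_one] at hu; norm_num at hu
    have hcen : u ∉ center G := fun h => by
      rcases IsSimpleGroup.eq_bot_or_eq_top_of_normal (center G) inferInstance with hc | hc
      · rw [hc, mem_bot] at h; exact hu1 h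
      · exact hG ⟨⟨fun p q => mem_center_iff.1 (hc.ge (mem_top q)) p⟩⟩
    obtain ⟨v, hvq, hv⟩ := RowInvolution.exists_mem_qRange hperf φ hu (fun g hg =>
      CfsgLib.Transfer.irr_apply_ne_apply_one φ (fun h => hne (Subtype.ext h)) hg) hcen
    obtain ⟨i, -, hi⟩ := List.mem_map.1 hvq
    exact ⟨v, hv, ⟨(i : ℤ) + 1, by rw [← hi]; ring⟩⟩
  have hB2 : ∀ φ : IrrCharacter G, φ ∈ CF → ∀ {u : G} {v : ℤ}, orderOf u = 2 →
      u * x * u⁻¹ = x⁻¹ → (φ : G → ℂ) u = v →
      -((charDegree (φ : G → ℂ) : ℤ) + 10 * ε φ) ≤ 11 * v ∧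
        11 * v ≤ (charDegree (φ : G → ℂ) : ℤ) + 10 * ε φ := fun φ hφ {u v} hu hinv hv =>
    inv_bound (Char.irr_isCharacter φ.2) (fun b g => Char.irr_isClassFunction φ.2 b g) hxo hu hinv
      (by rw [← BlockB.irr_degree_cast]; simp) hv
      fun j hj => D.CF_val φ hφ _ (hpowP j hj).1 (hpowP j hj).2
  have hsign : ∀ φ ∈ CF, (charDegree (φ : G → ℂ) % 11 = 1 → ε φ = 1) ∧
      (charDegree (φ : G → ℂ) % 11 = 10 → ε φ = -1) := fun φ hφ => by
    have hm := D.CF_mod φ hφ
    constructor <;> intro h <;> rcases D.eps_pm φ hφ with e' | e' <;> rw [e'] at hm ⊢ <;> omega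
  have hfl : ∀ {p : ℕ × ℕ → Bool}, five.all p = true → p a = true := fun h =>
    List.all_eq_true.1 h a ha
  have hfl' : ∀ {b : Bool}, (!b) = true → b = true → False := fun h1 h2 => by simp [h2] at h1
  by_cases hten : ∃ φ : IrrCharacter G, φ ∈ principalBlock M G ∧ φ ≠ one ∧
      charDegree (φ : G → ℂ) = 10
  · obtain ⟨φ, hφ, hne, hd⟩ := hten
    have hnot : ¬ (e % 2 = 1 ∨ np * e * 11 ≠ a.1) := fun hor => by
      have h := hrow φ hφ hne (fun np e => decide (e % 2 = 1) || decide (np * e * 11 ≠ a.1))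
        (fun _ => true) (fun d => decide (d = 10)) (by simpa using hor) (fun _ _ _ => rfl)
        (decide_eq_true hd)
      exact hfl' (hfl row_ten) h
    push Not at hnot
    have hC11 : Nat.card C = 11 := by
      have h1 : np * (e * Nat.card C) = np * (e * 11) := by
        rw [hcfg, ← mul_assoc]; exact hnot.2.symm
      exact Nat.eq_of_mul_eq_mul_left (by have := D.e_two; omega)
        (Nat.eq_of_mul_eq_mul_left Nat.card_pos h1)
    obtain ⟨u, hu, hinv⟩ := hinvol hC11 (by omega)
    have hφC := hdeg_row φ hφ (Or.inl hd) he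
    obtain ⟨v, hv, hv4⟩ := hinval hu φ hne
    have hb := hB2 φ hφC hu hinv hv
    rw [hd, (hsign φ hφC).2 (by rw [hd])] at hb
    rw [hd] at hv4
    omega
  push Not at hten
  by_cases hC11 : Nat.card C = 11
  · -- self-centralising: the relation of the rows at an involution fails
    have hnpe : np * e * 11 = a.1 := by rw [← hcfg, hC11]; ring
    have hal : ∀ ψ : IrrCharacter G, ψ ∈ principalBlock M G → ψ ≠ one →
        decide (charDegree (ψ : G → ℂ) ≠ 10) = true := fun ψ hψ hψ1 =>
      decide_eq_true (hten ψ hψ hψ1)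
    have he10 : e = 10 := by
      by_contra hne
      have h := hrow χ₀ (hblock _ hχ₀) hχ₀ne
        (fun np e => decide (np * e * 11 = a.1) && decide (e ≠ 10)) (fun d => decide (d ≠ 10))
        (fun _ => true) (by simp [hnpe, hne]) hal rfl
      exact hfl' (hfl self_cent_auto) h
    have ht : t = 1 := by have := D.hte; rw [he10] at this; omega
    have hdegs : ∀ φ ∈ CF, φ ≠ one → charDegree (φ : G → ℂ) = 12 ∨
        charDegree (φ : G → ℂ) = 32 ∨ charDegree (φ : G → ℂ) = 45 := fun φ hφ hne => by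
      by_contra hno
      push Not at hno
      have h := hrow φ (hblock _ hφ) hne (fun np e => decide (np * e * 11 = a.1))
        (fun d => decide (d ≠ 10))
        (fun d => decide (d ≠ 12) && decide (d ≠ 32) && decide (d ≠ 45))
        (by simp [hnpe]) hal (by simp [hno.1, hno.2.1, hno.2.2])
      exact hfl' (hfl self_cent_degs) h
    obtain ⟨u₀, hu₀, hinv₀⟩ := hinvol hC11 (by omega)
    -- an element of order five fixes some inverting involution
    obtain ⟨⟨y, hyN⟩, hy⟩ := exists_prime_orderOf_dvd_card' (G := N) 5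
      (hNcard ▸ Dvd.dvd.mul_right (by rw [he10]; norm_num) _)
    rw [Subgroup.orderOf_mk] at hy
    have hinvall : ∀ {g : G}, g * x * g⁻¹ = x⁻¹ → ∀ n : ℤ, g * x ^ n * g⁻¹ = (x ^ n)⁻¹ :=
      fun h n => by rw [← conj_zpow, h, inv_zpow]
    set T : Set G := {g | orderOf g = 2 ∧ g * x * g⁻¹ = x⁻¹} with hT
    have hTc : T.ncard = 11 := by
      rw [← hP, ← Nat.card_coe_set_eq]
      have hu0i : u₀⁻¹ = u₀ := inv_eq_of_mul_eq_one_right (by rw [← sq, ← hu₀, pow_orderOf_eq_one])
      refine Nat.card_congr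
        { toFun := fun g => ⟨(g : G) * u₀, ?_⟩
          invFun := fun c => ⟨(c : G) * u₀, ?_, ?_⟩
          left_inv := fun g => Subtype.ext ?_
          right_inv := fun c => Subtype.ext ?_ }
      · obtain ⟨hg2, hgi⟩ := g.2
        have hPC' : (P : Subgroup G) = C := Subgroup.eq_of_le_of_card_ge hPC (by rw [hP, hC11])
        rw [hPC', hC, ← BrauerReynolds.centralizer_mem_eq P hP hxP hx1]
        refine mem_centralizer_singleton_iff.2 (mul_inv_eq_iff_eq_mul.1 ?_)
        calc (g : G) * u₀ * x * ((g : G) * u₀)⁻¹ = (g : G) * (u₀ * x * u₀⁻¹) * (g : G)⁻¹ := by group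
          _ = (g : G) * x⁻¹ * (g : G)⁻¹ := by rw [hinv₀]
          _ = ((g : G) * x * (g : G)⁻¹)⁻¹ := by group
          _ = x := by rw [hgi, inv_inv]
      · obtain ⟨n, hn'⟩ := mem_zpowers_iff.1 (show (c : G) ∈ zpowers x by rw [hPx]; exact c.2)
        refine orderOf_eq_prime ?_ fun h => ?_
        · rw [sq, show (c : G) * u₀ * ((c : G) * u₀) = (c : G) * (u₀ * (c : G) * u₀⁻¹) by
            rw [hu0i]; group, ← hn', hinvall hinv₀, mul_inv_cancel]
        · have huP : u₀ ∈ (P : Subgroup G) := by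
            rw [eq_inv_of_mul_eq_one_right h]; exact inv_mem c.2
          have := Subgroup.orderOf_dvd_natCard _ huP
          rw [hP, hu₀] at this; norm_num at this
      · obtain ⟨n, hn'⟩ := mem_zpowers_iff.1 (show (c : G) ∈ zpowers x by rw [hPx]; exact c.2)
        calc (c : G) * u₀ * x * ((c : G) * u₀)⁻¹ = (c : G) * (u₀ * x * u₀⁻¹) * (c : G)⁻¹ := by group
          _ = (c : G) * x⁻¹ * (c : G)⁻¹ := by rw [hinv₀]
          _ = x⁻¹ := by rw [← hn']; group
      · show (g : G) * u₀ * u₀ = g
        nth_rewrite 2 [← hu0i]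
        rw [mul_inv_cancel_right]
      · show (c : G) * u₀ * u₀ = c
        nth_rewrite 2 [← hu0i]
        rw [mul_inv_cancel_right]
    obtain ⟨u, ⟨hu, hinv⟩, huy⟩ : ∃ u ∈ T, y * u = u * y := by
      by_contra hno
      push Not at hno
      have hmod := M12Nse.ncard_modEq_fixed (p := 5) (K := zpowers y)
        (IsPGroup.of_card (n := 1) (by rw [Nat.card_zpowers, hy, pow_one])) T fun k hk g hg => by
          refine ⟨by rw [CfsgLib.Invol.orderOf_conj_eq]; exact hg.1, ?_⟩
          have hkN : k ∈ N := (zpowers_le.2 hyN) hk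
          have hm : k⁻¹ * x * k ∈ (P : Subgroup G) := by
            have := (mem_normalizer_iff.1 (inv_mem hkN) x).1 hxP
            rwa [inv_inv] at this
          rw [← hPx] at hm
          obtain ⟨n, hn'⟩ := mem_zpowers_iff.1 hm
          calc k * g * k⁻¹ * x * (k * g * k⁻¹)⁻¹ = k * (g * (k⁻¹ * x * k) * g⁻¹) * k⁻¹ := by group
            _ = k * (k⁻¹ * x * k)⁻¹ * k⁻¹ := by rw [← hn', hinvall hg.2]
            _ = x⁻¹ := by group
      have hempty : {g | g ∈ T ∧ ∀ k ∈ zpowers y, k * g = g * k} = ∅ :=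
        Set.eq_empty_of_forall_notMem fun g hg => hno g hg.1 (hg.2 y (mem_zpowers y))
      rw [hTc, hempty, Set.ncard_empty] at hmod
      exact absurd hmod (by decide)
    have hidx : ∀ c : G, y ∈ centralizer ({c} : Set G) →
        ¬ 5 ∣ (centralizer ({c} : Set G)).index := fun c hc h => by
      have h1 := (centralizer ({c} : Set G)).index_mul_card
      have h2 := Subgroup.orderOf_dvd_natCard _ hc
      rw [hy] at h2
      have h3 := Nat.mul_dvd_mul h h2
      rw [h1, hn] at h3
      exact h25 h3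
    have hval : ∀ φ ∈ CF, φ ≠ one → ∃ v : ℤ, (φ : G → ℂ) u = v ∧ 0 ≤ (ε φ : ℤ) * v ∧
        (charDegree (φ : G → ℂ) = 45 → v = 5) := by
      intro φ hφ hne
      obtain ⟨v, hv, hv4⟩ := hinval hu φ hne
      have hb := hB2 φ hφ hu hinv hv
      have hix := dvd_index_mul φ hv
      refine ⟨v, hv, ?_, fun h45 => ?_⟩
      all_goals rcases hdegs φ hφ hne with h | h | h
      · rw [(hsign φ hφ).1 (by rw [h])] at hb ⊢; rw [h] at hb hv4; omega
      · rw [(hsign φ hφ).2 (by rw [h])] at hb ⊢; rw [h] at hb hv4; omega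
      · rw [(hsign φ hφ).1 (by rw [h])] at hb ⊢
        rw [h] at hb hv4 hix
        have h5v : (5 : ℤ) ∣ v := ((Int.prime_iff_natAbs_prime.2
          (by norm_num : (5 : ℤ).natAbs.Prime)).dvd_or_dvd ((by norm_num : (5 : ℤ) ∣ 45).trans
            hix)).resolve_left fun h' => hidx u (mem_centralizer_singleton_iff.2 huy)
              (by exact_mod_cast h')
        omega
      · omega
      · omega
      · rw [(hsign φ hφ).1 (by rw [h])] at hb
        rw [h] at hb hv4 hix
        have h5v : (5 : ℤ) ∣ v := ((Int.prime_iff_natAbs_prime.2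
          (by norm_num : (5 : ℤ).natAbs.Prime)).dvd_or_dvd ((by norm_num : (5 : ℤ) ∣ 45).trans
            hix)).resolve_left fun h' => hidx u (mem_centralizer_singleton_iff.2 huy)
              (by exact_mod_cast h')
        omega
    have hrel := D.relation_one ht u (by rw [hu]; norm_num)
    rw [← Finset.add_sum_erase _ _ D.one_mem, D.eps_one] at hrel
    choose! v hv hv0 hv5 using hval
    rw [Finset.sum_congr rfl (g := fun φ => ((ε φ * v φ : ℤ) : ℂ)) fun φ hφ => by
      rw [hv φ (Finset.mem_erase.1 hφ).2 (Finset.mem_erase.1 hφ).1]; push_cast; rfl] at hrel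
    simp only [Int.cast_one, one_mul] at hrel
    have hz : ((1 + ∑ φ ∈ CF.erase one, ε φ * v φ : ℤ) : ℂ) = ((0 : ℤ) : ℂ) := by
      push_cast at hrel ⊢; exact hrel
    have hz' : 1 + ∑ φ ∈ CF.erase one, ε φ * v φ = 0 := by exact_mod_cast hz
    have hnn : 0 ≤ ∑ φ ∈ CF.erase one, ε φ * v φ := Finset.sum_nonneg fun φ hφ =>
      hv0 φ (Finset.mem_erase.1 hφ).2 (Finset.mem_erase.1 hφ).1
    omega
  · -- an element of prime order centralising the Sylow subgroup lies in a kernel
    obtain ⟨φ, hφ, hne, hd⟩ : ∃ φ : IrrCharacter G, φ ∈ principalBlock M G ∧ φ ≠ one ∧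
        charDegree (φ : G → ℂ) = 45 := by
      by_contra hno
      push Not at hno
      have h := hrow χ₀ (hblock _ hχ₀) hχ₀ne (fun _ _ => true)
        (fun d => decide (d ≠ 10) && decide (d ≠ 45)) (fun _ => true) rfl
        (fun ψ hψ hψ1 => by simp [hten ψ hψ hψ1, hno ψ hψ hψ1]) rfl
      exact hfl' (hfl some_row) h
    have hnot : ¬ (e % 5 ≠ 0 ∨ 6 < a.1 / (np * e * 11)) := fun hor => by
      have h := hrow φ hφ hne (fun np e => decide (e % 5 ≠ 0) || decide (6 < a.1 / (np * e * 11)))
        (fun _ => true) (fun d => decide (d = 45)) (by simpa using hor) (fun _ _ _ => rfl)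
        (decide_eq_true hd)
      exact hfl' (hfl row_fortyfive) h
    push Not at hnot
    obtain ⟨c, hc⟩ : 11 ∣ Nat.card C := hP ▸ Subgroup.card_dvd_of_le hPC
    have hc6 : c ≤ 6 := by
      have : a.1 / (np * e * 11) = c := by
        rw [← hcfg, hc, show np * (e * (11 * c)) = np * e * 11 * c by ring,
          Nat.mul_div_cancel_left _ (by have := D.e_two; have h0 : 0 < np := Nat.card_pos; positivity)]
      omega
    have hc1 : 1 < c := by
      rcases Nat.eq_zero_or_pos c with h | h
      · rw [h, mul_zero] at hc; exact absurd hc Nat.card_pos.ne'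
      · rcases (show c = 1 ∨ 1 < c by omega) with h' | h'
        · exact absurd (by rw [hc, h']) hC11
        · exact h'
    obtain ⟨⟨y, hyN⟩, hy⟩ := exists_prime_orderOf_dvd_card' (G := N) 5
      (hNcard ▸ Dvd.dvd.mul_right (Nat.dvd_of_mod_eq_zero hnot.1) _)
    rw [Subgroup.orderOf_mk] at hy
    obtain ⟨q, hq, hqc⟩ := Nat.exists_prime_and_dvd (show c ≠ 1 by omega)
    have hCdvd : Nat.card C ∣ a.1 := hn ▸ C.card_subgroup_dvd_card
    have hcdvd : c ∣ a.1 / 11 := by
      rw [hc] at hCdvd
      exact Nat.dvd_div_of_mul_dvd hCdvd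
    have hc5 : ¬ 5 ∣ c := fun h => by
      have h5N : 5 * 5 ∣ Nat.card N := by
        rw [hNcard]
        exact Nat.mul_dvd_mul (Nat.dvd_of_mod_eq_zero hnot.1) (hc ▸ h.mul_left 11)
      exact h25 (hn ▸ h5N.trans N.card_subgroup_dvd_card)
    have hc11 : ¬ 11 ∣ c := fun h => absurd (Nat.le_of_dvd (by omega) h) (by omega)
    have hq5 : q ≠ 5 := fun h => hc5 (h ▸ hqc)
    have hq11 : q ≠ 11 := fun h => hc11 (h ▸ hqc)
    have : Fact q.Prime := ⟨hq⟩
    have hyC : zpowers y ≤ normalizer (C : Set G) := by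
      rw [zpowers_le]
      have hle : N ≤ normalizer (C : Set G) := by
        have h1 : (C.subgroupOf N).Normal := by
          rw [hC, hN, ← Subgroup.normalizerMonoidHom_ker]; infer_instance
        exact (Subgroup.normal_subgroupOf_iff_le_normalizer
          (Subgroup.centralizer_le_normalizer _)).1 h1
      exact hle hyN
    obtain ⟨R, hR⟩ := CfsgLib.Coprime.exists_invariant_sylow (A := zpowers y) (G := C) hyC
      (by
        rw [Nat.card_zpowers, hy, hc]
        refine (Nat.Prime.coprime_iff_not_dvd (by norm_num)).2 fun h => ?_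
        exact hc5 ((Nat.Prime.dvd_mul (by norm_num)).1 h |>.resolve_left (by norm_num)))
      (Or.inl (inferInstance : Group.IsSolvable (zpowers y))) q
    set R' := (R : Subgroup C).map C.subtype with hR'
    have hRcard : Nat.card R' = Nat.card (R : Subgroup C) :=
      card_map_of_injective C.subtype_injective
    obtain ⟨k, hk⟩ := IsPGroup.iff_card.1 R.2
    have hk0 : k ≠ 0 := fun h => by
      have := R.dvd_card_of_dvd_card (hc ▸ hqc.mul_left 11)
      rw [hk, h, pow_zero] at this
      exact hq.one_lt.ne' (Nat.dvd_one.1 this)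
    have hR6 : Nat.card (R : Subgroup C) ∣ c := by
      have h := (R : Subgroup C).card_subgroup_dvd_card
      rw [hc] at h
      refine Nat.Coprime.dvd_of_dvd_mul_left ?_ h
      rw [hk]
      exact ((Nat.coprime_primes hq (by norm_num)).2 hq11).pow_left k
    obtain ⟨z, hzR, hz1, hzy⟩ : ∃ z ∈ R', z ≠ 1 ∧ y * z = z * y := by
      by_contra hno
      push Not at hno
      have hmod := M12Nse.ncard_modEq_fixed (p := 5) (K := zpowers y)
        (IsPGroup.of_card (n := 1) (by rw [Nat.card_zpowers, hy, pow_one])) (R' : Set G)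
        fun k hk t ht => (mem_normalizer_iff.1 (hR hk) t).1 ht
      have hfix : {t | t ∈ (R' : Set G) ∧ ∀ k ∈ zpowers y, k * t = t * k} = {1} := by
        ext t
        refine ⟨fun ht => ?_, fun ht => by
          rw [Set.mem_singleton_iff.1 ht]; exact ⟨R'.one_mem, by simp⟩⟩
        by_contra h1
        exact hno t ht.1 h1 (ht.2 y (mem_zpowers y))
      rw [hfix, Set.ncard_singleton, ← Nat.card_coe_set_eq] at hmod
      change Nat.card R' ≡ 1 [MOD 5] at hmod
      have h6 : Nat.card R' ≤ 6 := by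
        rw [hRcard]; exact (Nat.le_of_dvd (by omega) hR6).trans hc6
      have hqk : 2 ≤ Nat.card R' := by
        rw [hRcard, hk]; exact le_trans hq.two_le (Nat.le_self_pow hk0 q)
      unfold Nat.ModEq at hmod
      have h66 : Nat.card R' = 6 := by omega
      rw [hRcard, hk] at h66
      have h2' : 2 ∣ q ^ k := h66 ▸ (by norm_num)
      have h3' : 3 ∣ q ^ k := h66 ▸ (by norm_num)
      have e2 := (Nat.prime_dvd_prime_iff_eq Nat.prime_two hq).1 (Nat.prime_two.dvd_of_dvd_pow h2')
      have e3 := (Nat.prime_dvd_prime_iff_eq Nat.prime_three hq).1 (Nat.prime_three.dvd_of_dvd_pow h3')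
      omega
    have hzC : z ∈ C := map_subtype_le _ hzR
    obtain ⟨j, hj⟩ : ∃ j : ℕ, orderOf z = q ^ j := by
      have h := Subgroup.orderOf_dvd_natCard R' hzR
      rw [hRcard, hk] at h
      obtain ⟨j, -, hj⟩ := (Nat.dvd_prime_pow hq).1 h
      exact ⟨j, hj⟩
    have hzord : 1 < orderOf z := by
      by_contra h
      exact hz1 (orderOf_eq_one_iff.1 (by have := orderOf_pos z; omega))
    set w := z ^ (q ^ (j - 1)) with hw
    have hj0 : j ≠ 0 := fun h => by rw [hj, h, pow_zero] at hzord; omega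
    have hwo : orderOf w = q := by
      rw [hw, orderOf_pow' _ (pow_ne_zero _ hq.ne_zero), hj,
        Nat.gcd_eq_right (pow_dvd_pow q (Nat.sub_le j 1)), Nat.pow_div (Nat.sub_le j 1) hq.pos,
        show j - (j - 1) = 1 by omega, pow_one]
    have hwC : w ∈ C := pow_mem hzC _
    have hwy : Commute y w := (show Commute y z from hzy).pow_right _
    have hxw : Commute x w := Subgroup.mem_centralizer_iff.1 hwC x hxP
    have hφC := hdeg_row φ hφ (Or.inr hd) he
    have hε : ε φ = 1 := (hsign φ hφC).1 (by rw [hd])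
    have hval : ∀ i l : ℕ, ¬ 11 ∣ i → (φ : G → ℂ) (x ^ i * w ^ l) = 1 := by
      intro i l hi
      obtain ⟨hm, hne1⟩ := hpowP i hi
      have hio : orderOf (x ^ i) = 11 := by
        rw [Nat.Coprime.orderOf_pow (by rw [hxo]; exact (Nat.Prime.coprime_iff_not_dvd (by norm_num)).2 hi),
          hxo]
      rw [(principal_section hM ⟨1, by rw [pow_one, hio]⟩
        (hasNormalPComplement_centralizer P hP hm hne1)).1 φ hφ _ (hxw.pow_pow i l)
        (fun h => hq11 ((Nat.prime_dvd_prime_iff_eq hq (by norm_num : Nat.Prime 11)).1 ?_).symm.symm),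
        D.CF_val φ hφC _ hm hne1, hε, Int.cast_one]
      · have := (h.trans (orderOf_pow_dvd l))
        rw [hwo] at this
        exact dvd_of_eq ((Nat.prime_dvd_prime_iff_eq (by norm_num) hq).1 this).symm
    -- the sum over the subgroup generated by `w`
    have := Fintype.ofFinite (zpowers w)
    have hzsum : ∀ (g : G) (n : ℕ), orderOf g = n → ∀ [Fintype (zpowers g)] (F : G → ℂ),
        ∑ h : zpowers g, F h = ∑ l ∈ Finset.range n, F (g ^ l) := by
      intro g n hgn _ F
      subst hgn
      rw [← (finEquivZPowers (isOfFinOrder_of_finite g)).sum_comp,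
        ← Fin.sum_univ_eq_sum_range (fun l => F (g ^ l))]
      exact Finset.sum_congr rfl fun l _ => by rw [finEquivZPowers_apply]
    have hwfin : ∀ F : G → ℂ, ∑ g : zpowers w, F g = ∑ l : Fin q, F (w ^ (l : ℕ)) := fun F => by
      rw [hzsum w q hwo F, Fin.sum_univ_eq_sum_range (fun l => F (w ^ l))]
    obtain ⟨m, hm⟩ := exists_sum_subgroup (Char.irr_isCharacter φ.2) (zpowers w)
    rw [hwfin, Nat.card_zpowers, hwo] at hm
    set v := x * w with hvdef
    have hvo : orderOf v = 11 * q := by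
      rw [hvdef, hxw.orderOf_mul_eq_mul_orderOf_of_coprime (by
        rw [hxo, hwo]; exact (Nat.coprime_primes (by norm_num) hq).2 (Ne.symm hq11)), hxo, hwo]
    have := Fintype.ofFinite (zpowers v)
    obtain ⟨m', hm'⟩ := exists_sum_subgroup (Char.irr_isCharacter φ.2) (zpowers v)
    rw [Nat.card_zpowers, hvo, hzsum v (11 * q) hvo] at hm'
    have hsplit : ∀ l : ℕ, (φ : G → ℂ) (v ^ l) =
        if 11 ∣ l then (φ : G → ℂ) (w ^ l) else 1 := fun l => by
      rw [hvdef, hxw.mul_pow]
      split_ifs with h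
      · rw [orderOf_dvd_iff_pow_eq_one.1 (hxo.symm ▸ h), one_mul]
      · exact hval l l h
    simp only [hsplit, Finset.sum_ite, Finset.sum_const, nsmul_eq_mul, mul_one] at hm'
    have hfilt : (Finset.range (11 * q)).filter (fun l => 11 ∣ l) =
        (Finset.range q).image (fun i => 11 * i) := by
      ext l
      simp only [Finset.mem_filter, Finset.mem_range, Finset.mem_image]
      constructor
      · rintro ⟨hl, i, rfl⟩; exact ⟨i, by omega, rfl⟩
      · rintro ⟨i, hi, rfl⟩; exact ⟨by omega, dvd_mul_right 11 i⟩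
    have hnc : ((Finset.range (11 * q)).filter (fun l => ¬ 11 ∣ l)).card = 10 * q := by
      have h := Finset.card_filter_add_card_filter_not (s := Finset.range (11 * q)) (fun l => 11 ∣ l)
      rw [hfilt, Finset.card_image_of_injective _ (fun a b h => by simpa using h), Finset.card_range,
        Finset.card_range] at h
      omega
    rw [hnc, hfilt, Finset.sum_image (fun a _ b _ h => by simpa using h)] at hm'
    have hperm : ∑ i ∈ Finset.range q, (φ : G → ℂ) (w ^ (11 * i)) =
        ∑ l : Fin q, (φ : G → ℂ) (w ^ (l : ℕ)) := by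
      rw [Fin.sum_univ_eq_sum_range (fun l => (φ : G → ℂ) (w ^ l))]
      refine Finset.sum_bij (fun i _ => 11 * i % q) (fun i _ => Finset.mem_range.2 (Nat.mod_lt _ hq.pos))
        (fun i hi i' hi' h => ?_) (fun l hl => ?_) fun i _ => by
          rw [← hwo, pow_mod_orderOf]
      · have hco : Nat.Coprime q 11 := (Nat.coprime_primes hq (by norm_num)).2 hq11
        have := Nat.ModEq.cancel_left_of_coprime (by rwa [Nat.coprime_iff_gcd_eq_one] at hco) h
        rw [Nat.ModEq, Nat.mod_eq_of_lt (Finset.mem_range.1 hi),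
          Nat.mod_eq_of_lt (Finset.mem_range.1 hi')] at this
        exact this
      · obtain ⟨b, hb⟩ : ∃ b, 11 * b % q = 1 := by
          obtain ⟨b, -, hb⟩ := Nat.exists_mul_mod_eq_one_of_coprime
            ((Nat.coprime_primes (by norm_num : Nat.Prime 11) hq).2 (Ne.symm hq11)) hq.one_lt
          exact ⟨b, hb⟩
        refine ⟨b * l % q, Finset.mem_range.2 (Nat.mod_lt _ hq.pos), ?_⟩
        rw [Nat.mul_mod_mod, ← mul_assoc, Nat.mul_mod, hb, one_mul, Nat.mod_mod,
          Nat.mod_eq_of_lt (Finset.mem_range.1 hl)]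
    rw [hperm, hm] at hm'
    have hmm : m + 10 = 11 * m' := by
      have : ((q * (m + 10) : ℕ) : ℂ) = ((q * (11 * m') : ℕ) : ℂ) := by
        push_cast at hm' ⊢; linear_combination hm'
      exact Nat.eq_of_mul_eq_mul_left hq.pos (by exact_mod_cast this)
    have h45 : (φ : G → ℂ) 1 = 45 := by rw [← BlockB.irr_degree_cast, hd]; norm_num
    -- five divides the values
    have hdiv5 : ∀ l : ℕ, ∃ A : ℂ, IsIntegral ℤ A ∧ (φ : G → ℂ) (w ^ l) = 5 * A := by
      intro l
      by_cases hl : q ∣ l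
      · refine ⟨9, ?_, ?_⟩
        · have h := isIntegral_algebraMap (R := ℤ) (A := ℂ) (x := (9 : ℤ))
          rwa [map_ofNat] at h
        rw [orderOf_dvd_iff_pow_eq_one.1 (hwo.symm ▸ hl), h45]; norm_num
      set g := w ^ l with hg
      have h5 : ¬ 5 ∣ (centralizer ({g} : Set G)).index := fun h => by
        have h1 := (centralizer ({g} : Set G)).index_mul_card
        have h2 := Subgroup.orderOf_dvd_natCard (centralizer ({g} : Set G))
          (mem_centralizer_singleton_iff.2 (hwy.pow_right l).eq)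
        rw [hy] at h2
        have h3 := Nat.mul_dvd_mul h h2
        rw [h1, hn] at h3
        exact h25 h3
      have hI := Block.irr_centralChar_isIntegral φ.2 g
      rw [centralChar] at hI
      have hbez := Nat.gcd_eq_gcd_ab ((centralizer ({g} : Set G)).index) 5
      rw [((Nat.Prime.coprime_iff_not_dvd (by norm_num)).2 h5).symm.gcd_eq_one] at hbez
      set α := Nat.gcdA ((centralizer ({g} : Set G)).index) 5
      set β := Nat.gcdB ((centralizer ({g} : Set G)).index) 5
      refine ⟨(α : ℂ) * (9 * (((centralizer ({g} : Set G)).index : ℂ) * (φ : G → ℂ) g / (φ : G → ℂ) 1))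
        + (β : ℂ) * (φ : G → ℂ) g, ?_, ?_⟩
      · refine IsIntegral.add (IsIntegral.mul (isIntegral_algebraMap (x := α)) (IsIntegral.mul ?_ hI))
          (IsIntegral.mul (isIntegral_algebraMap (x := β))
            (BlockB.irr_isIntegral φ g))
        have : IsIntegral ℤ ((9 : ℤ) : ℂ) := isIntegral_algebraMap
        simpa using this
      · have hb' : (1 : ℂ) = ((centralizer ({g} : Set G)).index : ℂ) * (α : ℂ) + 5 * (β : ℂ) := by
          exact_mod_cast hbez
        rw [h45]
        linear_combination (φ : G → ℂ) g * hb'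
    choose A hA hAeq using hdiv5
    have h5m : 5 ∣ q * m := by
      have h := int_dvd_of_integral (p := 5) (by norm_num) (a := ((q * m : ℕ) : ℤ))
        (A := ∑ l : Fin q, A l) (IsIntegral.sum _ fun l _ => hA l) (by
          rw [Finset.mul_sum]
          push_cast
          rw [← hm]
          exact Finset.sum_congr rfl fun l _ => (hAeq l).symm)
      exact_mod_cast h
    have h5m' : 5 ∣ m := ((Nat.Prime.dvd_mul (by norm_num)).1 h5m).resolve_left fun h =>
      hq5 ((Nat.prime_dvd_prime_iff_eq (by norm_num) hq).1 h).symm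
    have hle : ∀ l : Fin q, ((φ : G → ℂ) (w ^ (l : ℕ))).re ≤ 45 := fun l => by
      refine (Complex.re_le_norm _).trans ((BlockB.norm_irr_apply_le φ _).trans (le_of_eq ?_))
      rw [h45]; norm_num
    have hre : ∑ l : Fin q, ((φ : G → ℂ) (w ^ (l : ℕ))).re = (q : ℝ) * m := by
      rw [← Complex.re_sum, hm]; simp
    have hm45 : m ≤ 45 := by
      have h := Finset.sum_le_sum (s := Finset.univ) fun l _ => hle l
      rw [hre, Finset.sum_const, Finset.card_univ, Fintype.card_fin, nsmul_eq_mul] at h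
      exact_mod_cast le_of_mul_le_mul_left h (by exact_mod_cast hq.pos)
    have hm : m = 45 := by omega
    have hall := (Finset.sum_eq_sum_iff_of_le fun l (_ : l ∈ Finset.univ) => hle l).1 (by
      rw [hre, hm]; simp)
    have hre1 := hall ⟨1, hq.one_lt⟩ (Finset.mem_univ _)
    simp only [pow_one] at hre1
    have hnorm : ‖(φ : G → ℂ) w‖ ≤ 45 :=
      (BlockB.norm_irr_apply_le φ w).trans (le_of_eq (by rw [h45]; norm_num))
    have him : ((φ : G → ℂ) w).im = 0 := by
      have h1 := Complex.sq_norm ((φ : G → ℂ) w)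
      rw [Complex.normSq_apply] at h1
      nlinarith [norm_nonneg ((φ : G → ℂ) w)]
    refine CfsgLib.Transfer.irr_apply_ne_apply_one φ (fun h => hne (Subtype.ext h))
      (x := w) (fun h => by rw [h, orderOf_one] at hwo; exact hq.one_lt.ne hwo) ?_
    rw [h45]
    exact Complex.ext (by rw [hre1]; norm_num) (by rw [him]; norm_num)

end CfsgLib.ClassK.M12Graph
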