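import Mathlib.Algebra.Order.BigOperators.Ring.Finset
import Mathlib.Data.Int.Basic
import Mathlib.Tactic.Linarith
import Mathlib.Tactic.Ring

/-!
A finite search for multisets of triples with prescribed moments.
-/

set_option autoImplicit false

namespace CfsgLib.ClassK.M12Graph

/-- A bound on the multiplicity from one second moment. -/
def bd (S q u : ℤ) : ℕ := if u = 0 then S.toNat else q.toNat / (u.natAbs * u.natAbs)

theorem le_bd {S q u : ℤ} {j : ℕ} (hS : (j : ℤ) ≤ S) (h : (j : ℤ) * (u * u) ≤ q) : j ≤ bd S q u := by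
  rw [bd]
  split
  · omega
  · next hu =>
    rw [Nat.le_div_iff_mul_le (Nat.mul_pos (Int.natAbs_pos.2 hu) (Int.natAbs_pos.2 hu))]
    have e : ((u.natAbs * u.natAbs : ℕ) : ℤ) = u * u := by
      push_cast; exact abs_mul_abs_self u
    have h' : ((j * (u.natAbs * u.natAbs) : ℕ) : ℤ) ≤ q := by
      rw [Nat.cast_mul, e]; exact h
    omega

/-- Could some multiset of the options have these five moments? -/
def scan : List (ℕ × ℤ × ℤ) → ℤ → ℤ → ℤ → ℤ → ℤ → Bool
  | [], S, L, q, M, Q => decide (S = 0) && decide (L = 0) && decide (q = 0) && decide (M = 0) &&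
      decide (Q = 0)
  | (k, u, v) :: os, S, L, q, M, Q =>
    decide (0 ≤ S) && decide (0 ≤ q) && decide (0 ≤ Q) && decide (L * L ≤ S * q) &&
      decide (M * M ≤ S * Q) &&
      (List.range (min (S.toNat / (k * k)) (min (bd S q u) (bd S Q v)) + 1)).any fun (j : ℕ) =>
        scan os (S - (j : ℤ) * ((k : ℤ) * k)) (L - (j : ℤ) * ((k : ℤ) * u)) (q - (j : ℤ) * (u * u))
          (M - (j : ℤ) * ((k : ℤ) * v)) (Q - (j : ℤ) * (v * v))

theorem scan_sound {ι : Type*} (f : ι → ℕ × ℤ × ℤ) :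
    ∀ (os : List (ℕ × ℤ × ℤ)) (s : Finset ι), (∀ i ∈ s, f i ∈ os) → (∀ o ∈ os, 0 < o.1) →
      scan os (∑ i ∈ s, ((f i).1 : ℤ) * (f i).1) (∑ i ∈ s, ((f i).1 : ℤ) * (f i).2.1)
        (∑ i ∈ s, (f i).2.1 * (f i).2.1) (∑ i ∈ s, ((f i).1 : ℤ) * (f i).2.2)
        (∑ i ∈ s, (f i).2.2 * (f i).2.2) = true := by
  classical
  intro os
  induction os with
  | nil =>
    intro s hs _
    obtain rfl : s = ∅ := Finset.eq_empty_of_forall_notMem fun i hi => by simpa using hs i hi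
    simp [scan]
  | cons o os ih =>
    intro s hs hpos
    obtain ⟨k, u, v⟩ := o
    set s₁ := s.filter (fun i => f i = (k, u, v)) with hs₁
    set s₂ := s.filter (fun i => ¬ f i = (k, u, v)) with hs₂
    have hsplit : ∀ g : ℕ × ℤ × ℤ → ℤ,
        ∑ i ∈ s, g (f i) = (s₁.card : ℤ) * g (k, u, v) + ∑ i ∈ s₂, g (f i) := fun g => by
      rw [← Finset.sum_filter_add_sum_filter_not s (fun i => f i = (k, u, v))]
      congr 1
      rw [Finset.sum_congr rfl (g := fun _ => g (k, u, v)) fun i hi => by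
        rw [(Finset.mem_filter.1 hi).2], Finset.sum_const, nsmul_eq_mul]
    have e1 := hsplit fun o => (o.1 : ℤ) * o.1
    have e2 := hsplit fun o => (o.1 : ℤ) * o.2.1
    have e3 := hsplit fun o => o.2.1 * o.2.1
    have e4 := hsplit fun o => (o.1 : ℤ) * o.2.2
    have e5 := hsplit fun o => o.2.2 * o.2.2
    simp only at e1 e2 e3 e4 e5
    have n1 : 0 ≤ ∑ i ∈ s₂, ((f i).1 : ℤ) * (f i).1 := Finset.sum_nonneg fun i _ => by positivity
    have n3 : 0 ≤ ∑ i ∈ s₂, (f i).2.1 * (f i).2.1 := Finset.sum_nonneg fun i _ => mul_self_nonneg _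
    have n5 : 0 ≤ ∑ i ∈ s₂, (f i).2.2 * (f i).2.2 := Finset.sum_nonneg fun i _ => mul_self_nonneg _
    have m1 : 0 ≤ ∑ i ∈ s, ((f i).1 : ℤ) * (f i).1 := Finset.sum_nonneg fun i _ => by positivity
    have m3 : 0 ≤ ∑ i ∈ s, (f i).2.1 * (f i).2.1 := Finset.sum_nonneg fun i _ => mul_self_nonneg _
    have m5 : 0 ≤ ∑ i ∈ s, (f i).2.2 * (f i).2.2 := Finset.sum_nonneg fun i _ => mul_self_nonneg _
    have c2 := Finset.sum_mul_sq_le_sq_mul_sq s (fun i => ((f i).1 : ℤ)) fun i => (f i).2.1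
    have c4 := Finset.sum_mul_sq_le_sq_mul_sq s (fun i => ((f i).1 : ℤ)) fun i => (f i).2.2
    simp only [sq] at c2 c4
    simp only [scan, Bool.and_eq_true, decide_eq_true_eq, List.any_eq_true]
    refine ⟨⟨⟨⟨⟨m1, m3⟩, m5⟩, c2⟩, c4⟩, s₁.card, List.mem_range.2 ?_, ?_⟩
    · have hk : 0 < k := hpos (k, u, v) (List.mem_cons_self ..)
      have h : ((s₁.card * (k * k) : ℕ) : ℤ) ≤ ∑ i ∈ s, ((f i).1 : ℤ) * (f i).1 := by
        rw [e1]; push_cast; linarith
      have hj : (s₁.card : ℤ) ≤ ∑ i ∈ s, ((f i).1 : ℤ) * (f i).1 :=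
        le_trans (by exact_mod_cast Nat.le_mul_of_pos_right _ (Nat.mul_pos hk hk)) h
      rw [Nat.lt_succ_iff]
      refine le_min ?_ (le_min (le_bd hj (by rw [e3]; linarith)) (le_bd hj (by rw [e5]; linarith)))
      rw [Nat.le_div_iff_mul_le (Nat.mul_pos hk hk)]
      omega
    · have h := ih s₂ (fun i hi => ?_) fun o ho => hpos o (List.mem_cons_of_mem _ ho)
      · rw [e1, e2, e3, e4, e5]
        simpa only [add_sub_cancel_left] using h
      · obtain ⟨hi, hne⟩ := Finset.mem_filter.1 hi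
        exact (List.mem_cons.1 (hs i hi)).resolve_left hne

end CfsgLib.ClassK.M12Graph
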