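import Cfsg.Agent.Lib.ClassK.M12Graph.Orders
import Cfsg.Agent.Lib.ClassK.OrdersSweep
import Cfsg.Agent.Lib.KnownB.Order7920
import Cfsg.Agent.Lib.KnownA.MathieuSchurM11
import Cfsg.Agent.Lib.KnownA.MathieuOut2
import Cfsg.Agent.Lib.Recog.OrderM11Unique
import Cfsg.Agent.Lib.Recog.OrderM11Degrees
import Cfsg.Agent.Lib.Solvable.PCore
import Cfsg.Agent.Lib.Comp.Subnormal
import Cfsg.Agent.Lib.Char.Misc
import Cfsg.Agent.Lib.Char.CliffordApps
import Cfsg.Agent.Lib.Clifford.DegreesOneP
import Cfsg.Agent.Lib.StructC.DegreeModels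

/-!
Groups of order `95040` with irreducible degrees divisible by `55` and by `33`.
-/

set_option autoImplicit false
set_option linter.style.haveILetI false
set_option synthInstance.maxSize 2000
set_option maxHeartbeats 1000000

namespace CfsgLib.ClassK.M12Graph

open Cfsg CfsgLib Subgroup
open scoped commutatorElement

universe u

/-- The candidates for the order of the simple section. -/
def rests : List (ℕ × ℕ) :=
  [(3168, 57), (6336, 80), (9504, 98), (19008, 138), (3960, 63), (5940, 78)]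

theorem rests_killed : (rests.all fun a => !RowSieve.rowPossible a.1 11 a.2 (fun _ _ => true)
    (fun _ => true) (fun _ => true)) = true := by
  decide +kernel

/-- The orders not excluded by counting. -/
def cand : List ℕ := [7920, 95040] ++ rests.map Prod.fst ++ five.map Prod.fst

theorem order_scan : ((List.range 8641).all fun d => decide (8640 % d ≠ 0) ||
    decide (11 * d < 121) || (decide (d % 5 = 0) && decide (11 * d < 3025)) ||
    sweepKilled (11 * d) || decide (11 * d ∈ cand)) = true := by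
  decide +kernel

theorem order_cases {Q : Type u} [Group Q] [Finite Q] [IsSimpleGroup Q]
    (hQ : ¬ IsMulCommutative Q) (hdvd : Nat.card Q ∣ 95040) (h11 : 11 ∣ Nat.card Q)
    (hbig : 121 ≤ Nat.card Q) (h5 : 5 ∣ Nat.card Q → 3025 ≤ Nat.card Q) :
    Nat.card Q = 7920 ∨ Nat.card Q = 95040 := by
  obtain ⟨d, hd⟩ := h11
  rw [hd] at hdvd
  have hd' : d ∣ 8640 := Nat.dvd_of_mul_dvd_mul_left (by norm_num) (hdvd : 11 * d ∣ 11 * 8640)
  have hlt : d < 8641 := Nat.lt_succ_of_le (Nat.le_of_dvd (by norm_num) hd')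
  have h := List.all_eq_true.1 order_scan d (List.mem_range.2 hlt)
  simp only [Bool.or_eq_true, Bool.and_eq_true, decide_eq_true_eq] at h
  rcases h with (((h | h) | h) | h) | h
  · exact absurd (Nat.mod_eq_zero_of_dvd hd') h
  · omega
  · have : 5 ∣ Nat.card Q := hd ▸ (Nat.dvd_of_mod_eq_zero h.1).mul_left 11
    have := h5 this
    omega
  · have := sweepKilled_false (G := Q) hQ
    rw [hd, h] at this
    exact Bool.noConfusion this
  rw [← hd] at h
  simp only [cand, List.mem_append, List.mem_cons, List.not_mem_nil, or_false] at h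
  rcases h with (h | h) | h
  · exact h
  · exfalso
    obtain ⟨a, ha, he⟩ := List.mem_map.1 h
    have : Fact (Nat.Prime 11) := ⟨by norm_num⟩
    obtain ⟨h1, h2, h3⟩ :=
      (by decide : ∀ b ∈ rests, b.1 < b.2 * b.2 ∧ 11 ∣ b.1 ∧ ¬ 11 ^ 2 ∣ b.1) a ha
    refine RowSieve.false_of_rowPossible (p := 11) hQ he.symm h1 h2 h3 ?_
    simpa using List.all_eq_true.1 rests_killed a ha
  · exfalso
    obtain ⟨a, ha, he⟩ := List.mem_map.1 h
    exact no_five hQ ha he.symm

variable {G : Type u} [Group G] [Finite G]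

theorem mem_of_eleven (h121 : ¬ 11 ^ 2 ∣ Nat.card G) {L : Subgroup G} [L.Normal]
    (hL : 11 ∣ Nat.card L) {g : G} (hg : orderOf g = 11) : g ∈ L := by
  have hidx : ¬ 11 ∣ L.index := fun h => h121 (by
    have := Nat.mul_dvd_mul hL h
    rwa [Subgroup.card_mul_index, ← sq] at this)
  rw [← QuotientGroup.eq_one_iff]
  have h1 : orderOf (g : G ⧸ L) ∣ 11 := hg ▸ orderOf_map_dvd (QuotientGroup.mk' L) g
  rcases (Nat.dvd_prime (by norm_num)).1 h1 with h | h
  · exact orderOf_eq_one_iff.1 h
  · exact absurd (h ▸ (orderOf_dvd_natCard (g : G ⧸ L))) (by rwa [← Subgroup.index_eq_card])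

/-- An element of order eleven centralises a normal subgroup of order prime to eleven. -/
theorem centralizes (hcard : Nat.card G = 95040) (N : Subgroup G) [N.Normal]
    (h11 : ¬ 11 ∣ Nat.card N) {x : G} (hx : orderOf x = 11) :
    N ≤ centralizer ({x} : Set G) := by
  have : Fact (Nat.Prime 11) := ⟨by norm_num⟩
  have hN : Nat.card N ∣ 11 * 8640 := by
    rw [show 11 * 8640 = 95040 by norm_num, ← hcard]; exact N.card_subgroup_dvd_card
  have hN' : Nat.card N ∣ 8640 :=
    (((Nat.Prime.coprime_iff_not_dvd (by norm_num)).2 h11).symm).dvd_of_dvd_mul_left hN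
  have key : ∀ d ∈ Nat.divisors 8640, d.primeFactors.card ≤ 1 →
      ∀ f ∈ Nat.divisors d, f % 11 = d % 11 → f = d := by decide +kernel
  have hfull : Nat.card N ∣ Nat.card ↥(N ⊓ centralizer ({x} : Set G)) := by
    refine (Nat.dvd_iff_prime_pow_dvd_dvd _ _).2 fun p k hp hpk => ?_
    have : Fact p.Prime := ⟨hp⟩
    obtain ⟨R, hR⟩ := CfsgLib.Coprime.exists_invariant_sylow (A := zpowers x) (G := N)
      (by rw [normalizer_eq_top]; exact le_top)
      (by rw [Nat.card_zpowers, hx]; exact (Nat.Prime.coprime_iff_not_dvd (by norm_num)).2 h11)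
      (Or.inl (inferInstance : Group.IsSolvable (zpowers x))) p
    set R' := (R : Subgroup N).map N.subtype with hR'
    have hc : Nat.card R' = Nat.card (R : Subgroup N) :=
      card_map_of_injective N.subtype_injective
    have hle : R' ≤ N ⊓ centralizer ({x} : Set G) := by
      refine le_inf (map_subtype_le _) fun r hr => mem_centralizer_singleton_iff.2 ?_
      have hd : Nat.card R' ∣ 8640 := (card_dvd_of_le (map_subtype_le _)).trans hN'
      refine (KnownB.Order7920.commute_of_normalize hx (hR (mem_zpowers x))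
        (fun f hf hmod => key _ (Nat.mem_divisors.2 ⟨hd, by norm_num⟩) ?_ f
          (Nat.mem_divisors.2 ⟨hf, Nat.card_pos.ne'⟩) hmod) hr).symm.eq
      obtain ⟨j, hj⟩ := IsPGroup.iff_card.1 R.2
      rw [hc, hj]
      rcases Nat.eq_zero_or_pos j with rfl | hj'
      · simp
      · rw [Nat.primeFactors_prime_pow hj'.ne' hp]; simp
    refine (R.pow_dvd_card_of_pow_dvd_card hpk).trans ?_
    rw [← hc]
    exact card_dvd_of_le hle
  have := Subgroup.eq_of_le_of_card_ge (inf_le_left : N ⊓ centralizer ({x} : Set G) ≤ N)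
    (Nat.le_of_dvd Nat.card_pos hfull)
  exact this ▸ inf_le_right

/-- The degree of an irreducible character of a simple group of order `7920`. -/
theorem deg_M11 {χ : IrrCharacter ↥Spor.M11} :
    charDegree (χ : ↥Spor.M11 → ℂ) ∈ [1, 10, 11, 16, 44, 45, 55] := by
  have := CfsgLib.Golay.isSimple_sporM11
  have h := (Recog.OrderM11.degree_count (G := ↥Spor.M11) CfsgLib.Golay.card_sporM11).2
    (charDegree (χ : ↥Spor.M11 → ℂ))
  have hpos : 0 < Nat.card {ψ : IrrCharacter ↥Spor.M11 //
      charDegree (ψ : ↥Spor.M11 → ℂ) = charDegree (χ : ↥Spor.M11 → ℂ)} := by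
    have : Nonempty {ψ : IrrCharacter ↥Spor.M11 //
      charDegree (ψ : ↥Spor.M11 → ℂ) = charDegree (χ : ↥Spor.M11 → ℂ)} := ⟨⟨χ, rfl⟩⟩
    exact Nat.card_pos
  rw [h] at hpos
  simp only [List.mem_cons, List.not_mem_nil, or_false]
  split_ifs at hpos <;> omega

/-- A group of order twelve with an irreducible degree divisible by three is `A₄`. -/
theorem iso_alt_four {E : Type u} [Group E] [Finite E] (hE : Nat.card E = 12)
    (φ : IrrCharacter E) (h3 : 3 ∣ charDegree (φ : E → ℂ)) :
    Nonempty (E ≃* alternatingGroup (Fin 4)) := by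
  classical
  have : Fact (Nat.Prime 3) := ⟨Nat.prime_three⟩
  have hT : ∀ T : Sylow 3 E, Nat.card (T : Subgroup E) = 3 := fun T =>
    CfsgLib.Transfer.card_sylow_eq_prime T (by rw [hE]; norm_num) (by rw [hE]; norm_num)
  have hnn : ∀ T : Sylow 3 E, ¬ (T : Subgroup E).Normal := fun T hn => by
    have hi := (T : Subgroup E).index_mul_card
    rw [hT, hE] at hi
    have : IsCyclic (T : Subgroup E) := isCyclic_of_prime_card (hT T)
    have hd := StructC.DegreeModels.deg_dvd_index φ (T : Subgroup E) fun a ha b hb => congrArg Subtype.val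
      ((IsCyclic.commGroup (α := (T : Subgroup E))).mul_comm ⟨a, ha⟩ ⟨b, hb⟩)
    rw [show (T : Subgroup E).index = 4 by omega] at hd
    exact absurd (h3.trans hd) (by norm_num)
  obtain ⟨T₀⟩ : Nonempty (Sylow 3 E) := inferInstance
  have hn : Nat.card (Sylow 3 E) = 4 := by
    have h1 : Nat.card (Sylow 3 E) % 3 = 1 := card_sylow_modEq_one 3 E
    have h2 := Sylow.card_dvd_index T₀
    have hi := (T₀ : Subgroup E).index_mul_card
    rw [hT, hE] at hi
    rw [show (T₀ : Subgroup E).index = 4 by omega] at h2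
    have h3' : Nat.card (Sylow 3 E) ≠ 1 := fun e => hnn T₀ (by
      rw [Sylow.card_eq_index_normalizer T₀] at e
      exact Subgroup.normalizer_eq_top_iff.1 (Subgroup.index_eq_one.1 e))
    have := Nat.le_of_dvd (by norm_num) h2
    interval_cases Nat.card (Sylow 3 E) <;> omega
  have hnorm : ∀ T : Sylow 3 E, normalizer ((T : Subgroup E) : Set E) = (T : Subgroup E) := fun T => by
    refine (Subgroup.eq_of_le_of_card_ge le_normalizer ?_).symm
    have h1 := Subgroup.index_mul_card (normalizer ((T : Subgroup E) : Set E))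
    have h2 : Nat.card (Sylow 3 E) = (normalizer ((T : Subgroup E) : Set E)).index :=
      Sylow.card_eq_index_normalizer T
    rw [← h2, hn, hE] at h1
    rw [hT]
    omega
  have : Nontrivial (Sylow 3 E) := Finite.one_lt_card_iff_nontrivial.1 (by omega)
  obtain ⟨T, T', hne⟩ := exists_pair_ne (Sylow 3 E)
  let ρ : E →* Equiv.Perm (Sylow 3 E) := MulAction.toPermHom E (Sylow 3 E)
  have hρ : Function.Injective ρ := by
    rw [injective_iff_map_eq_one]
    intro g hg
    have hfix : ∀ U : Sylow 3 E, g ∈ (U : Subgroup E) := fun U => by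
      rw [← hnorm U]
      exact Sylow.smul_eq_iff_mem_normalizer.1 (DFunLike.congr_fun hg U)
    by_contra hg1
    refine hne (Sylow.ext ?_)
    have : ∀ U : Sylow 3 E, zpowers g = (U : Subgroup E) := fun U =>
      Subgroup.eq_of_le_of_card_ge (zpowers_le.2 (hfix U)) (by
        have hd := Subgroup.orderOf_dvd_natCard _ (hfix U)
        rw [hT] at hd
        rw [hT, Nat.card_zpowers]
        rcases (Nat.dvd_prime Nat.prime_three).1 hd with h | h
        · exact absurd (orderOf_eq_one_iff.1 h) hg1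
        · omega)
    rw [← this T, ← this T']
  obtain ⟨f⟩ : Nonempty (Sylow 3 E ≃ Fin 4) := ⟨(Finite.equivFinOfCardEq hn)⟩
  let ψ : E →* Equiv.Perm (Fin 4) := f.permCongrHom.toMonoidHom.comp ρ
  have hψ : Function.Injective ψ := f.permCongrHom.injective.comp hρ
  have hrange : ψ.range = alternatingGroup (Fin 4) := by
    refine Equiv.Perm.eq_alternatingGroup_of_index_eq_two ?_
    have h1 := ψ.range.index_mul_card
    rw [← Nat.card_congr (MonoidHom.ofInjective hψ).toEquiv, hE, Nat.card_perm] at h1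
    simp only [Nat.card_fin, show Nat.factorial 4 = 24 from rfl] at h1
    omega
  exact ⟨(MonoidHom.ofInjective hψ).trans (MulEquiv.subgroupCongr hrange)⟩

/-- A perfect group with central kernel over `M₁₁` maps isomorphically. -/
theorem ker_eq_bot {K : Type u} [Group K] [Finite K] (hK : commutator K = ⊤)
    (s : K →* ↥Spor.M11) (hs : Function.Surjective s) (hc : s.ker ≤ center K) : s.ker = ⊥ := by
  let t : Shrink.{0} K ≃* K := Shrink.mulEquiv
  let σ : Shrink.{0} K →* ↥Spor.M11 := s.comp t.toMonoidHom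
  have hσ : IsStemExtension σ := by
    refine ⟨hs.comp t.surjective, fun x hx => mem_center_iff.2 fun g => t.injective ?_, ?_⟩
    · rw [map_mul, map_mul]
      exact mem_center_iff.1 (hc (show t x ∈ s.ker from hx)) _
    · have : commutator (Shrink.{0} K) = ⊤ := by
        rw [_root_.commutator_def]
        apply Subgroup.map_injective (f := t.toMonoidHom) t.injective
        rw [map_commutator, ← MonoidHom.range_eq_map, MonoidHom.range_eq_top.2 t.surjective,
          ← _root_.commutator_def, hK]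
      rw [this]
      exact le_top
  obtain ⟨π, hπ⟩ := KnownA.SchurCert.M11.multiplier.2 (Shrink.{0} K) σ hσ
  rw [eq_bot_iff]
  intro x hx
  obtain ⟨a, ha⟩ := hπ ⟨t.symm x, by
    rw [MonoidHom.mem_ker]
    show s (t (t.symm x)) = 1
    rw [t.apply_symm_apply]; exact hx⟩
  rw [Subsingleton.elim a 1, map_one] at ha
  have := congrArg Subtype.val ha
  rw [mem_bot, ← t.apply_symm_apply x, ← show (1 : Shrink.{0} K) = t.symm x from this, map_one]

/-- The centraliser of a normal `M₁₁` is a complement. -/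
theorem split_M11 (D : Subgroup G) [D.Normal] (e : D ≃* ↥Spor.M11) :
    ∃ E : Subgroup G, Nonempty (G ≃* ↥E × ↥Spor.M11) := by
  have hout : ∀ φ : MulAut D, ∃ d : D, φ = MulAut.conj d := by
    intro φ
    obtain ⟨m, hm⟩ : (e.symm.trans (φ.trans e) : MulAut ↥Spor.M11) ∈ Inn ↥Spor.M11 := by
      have h := KnownA.Mathieu.out_M11
      have : Inn ↥Spor.M11 = ⊤ := Subgroup.index_eq_one.1 (by
        rw [Subgroup.index_eq_card]; exact h)
      rw [this]; exact mem_top _
    refine ⟨e.symm m, MulEquiv.ext fun d => e.injective ?_⟩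
    have := DFunLike.congr_fun hm (e d)
    simp only [MulAut.conj_apply, MulEquiv.trans_apply, e.symm_apply_apply] at this
    rw [MulAut.conj_apply, map_mul, map_mul, map_inv, e.apply_symm_apply, ← this]
  let E := centralizer (D : Set G)
  have hdisj : ∀ a ∈ E, a ∈ D → a = 1 := by
    intro a haE haD
    have hcen : e ⟨a, haD⟩ ∈ center ↥Spor.M11 := mem_center_iff.2 fun m => by
      obtain ⟨b, rfl⟩ := e.surjective m
      rw [← map_mul, ← map_mul]
      exact congrArg e (Subtype.ext (mem_centralizer_iff.1 haE b b.2))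
    have := CfsgLib.Golay.isSimple_sporM11
    rw [CfsgLib.Invol.center_eq_bot_of_simple (fun hc => by
      let : CommGroup ↥Spor.M11 :=
        { (inferInstance : Group ↥Spor.M11) with mul_comm := hc.is_comm.comm }
      have h := IsSimpleGroup.prime_card (α := ↥Spor.M11)
      rw [CfsgLib.Golay.card_sporM11] at h
      norm_num at h), mem_bot, map_eq_one_iff e e.injective] at hcen
    exact congrArg Subtype.val hcen
  let f : E × D →* G :=
    { toFun := fun p => (p.1 : G) * (p.2 : G)
      map_one' := by simp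
      map_mul' := fun p q => by
        simp only [Prod.fst_mul, Prod.snd_mul, Subgroup.coe_mul]
        rw [mul_assoc (p.1 : G) (p.2 : G), ← mul_assoc (p.2 : G),
          mem_centralizer_iff.1 q.1.2 p.2 p.2.2]
        simp only [mul_assoc] }
  have hf : Function.Bijective f := by
    constructor
    · rw [injective_iff_map_eq_one]
      rintro ⟨⟨a, ha⟩, ⟨b, hb⟩⟩ h
      change a * b = 1 at h
      have ha1 : a = 1 := hdisj a ha (by rw [eq_inv_of_mul_eq_one_left h]; exact inv_mem hb)
      subst ha1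
      rw [one_mul] at h
      subst h
      rfl
    · intro g
      obtain ⟨d, hd⟩ := hout (MulAut.conjNormal g)
      refine ⟨⟨⟨g * (d : G)⁻¹, mem_centralizer_iff.2 fun b hb => ?_⟩, d⟩, by simp [f]⟩
      have h := congrArg Subtype.val (DFunLike.congr_fun hd
        (⟨(d : G)⁻¹ * b * d, by simpa using (inferInstance : D.Normal).conj_mem b hb (d : G)⁻¹⟩ : D))
      simp only [MulAut.conjNormal_apply, MulAut.conj_apply, Subgroup.coe_mul,
        InvMemClass.coe_inv] at h
      have h' : g * (d : G)⁻¹ * b * (g * (d : G)⁻¹)⁻¹ = b := by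
        calc g * (d : G)⁻¹ * b * (g * (d : G)⁻¹)⁻¹ = g * ((d : G)⁻¹ * b * d) * g⁻¹ := by group
          _ = (d : G) * ((d : G)⁻¹ * b * d) * (d : G)⁻¹ := h
          _ = b := by group
      exact (mul_inv_eq_iff_eq_mul.1 h').symm
  exact ⟨E, ⟨(MulEquiv.ofBijective f hf).symm.trans (MulEquiv.prodCongr (MulEquiv.refl E) e)⟩⟩

theorem exists_iso (hcard : Nat.card G = 95040)
    (χ5 : IrrCharacter G) (h55 : 55 ∣ charDegree (χ5 : G → ℂ))
    (χ3 : IrrCharacter G) (h33 : 33 ∣ charDegree (χ3 : G → ℂ)) :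
    IsSimpleGroup G ∨ Nonempty (G ≃* alternatingGroup (Fin 4) × ↥Spor.M11) := by
  classical
  have : Fact (Nat.Prime 11) := ⟨by norm_num⟩
  have := Fintype.ofFinite G
  have h121 : ¬ 11 ^ 2 ∣ Nat.card G := by rw [hcard]; norm_num
  set N := Cfsg.pPrimeCore 11 G with hNdef
  have hNn : N.Normal := CfsgLib.Solvable.pPrimeCore_normal 11 G
  have hN11 : ¬ 11 ∣ Nat.card N := CfsgLib.Comp.not_dvd_card_pPrimeCore 11 G
  have hNtop : N ≠ ⊤ := fun h => hN11 (by rw [h, card_top, hcard]; norm_num)
  obtain ⟨M, hM⟩ := (Set.toFinite {M : Subgroup G | M.Normal ∧ N < M}).exists_minimal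
    ⟨⊤, inferInstance, lt_top_iff_ne_top.2 hNtop⟩
  obtain ⟨hMn, hNM⟩ := hM.prop
  have hM11 : 11 ∣ Nat.card M := by
    by_contra h
    exact absurd (CfsgLib.Solvable.le_pPrimeCore hMn ((Nat.Prime.coprime_iff_not_dvd (by norm_num)).2 h).symm)
      (not_le_of_gt hNM)
  set C := M ⊓ centralizer (N : Set G) with hCdef
  have hC : ∀ g : G, orderOf g = 11 → g ∈ C := fun g hg =>
    ⟨mem_of_eleven h121 hM11 hg, mem_centralizer_iff.2 fun n hn =>
      mem_centralizer_singleton_iff.1 (centralizes hcard N hN11 hg hn)⟩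
  have hCn : C.Normal := inferInstance
  obtain ⟨x, hx⟩ := exists_prime_orderOf_dvd_card' (G := G) 11 (by rw [hcard]; norm_num)
  have hC11 : 11 ∣ Nat.card C := hx ▸ Subgroup.orderOf_dvd_natCard C (hC x hx)
  have hCN : ¬ C ≤ N := fun h => hN11 (hC11.trans (card_dvd_of_le h))
  have hCidx : ¬ 11 ∣ C.index := fun h => h121 (by
    have := Nat.mul_dvd_mul hC11 h
    rwa [Subgroup.card_mul_index, ← sq] at this)
  set Z := N.subgroupOf C with hZdef
  have hZn : Z.Normal := inferInstance
  have hZc : Z ≤ center C := fun z hz => mem_center_iff.2 fun g => Subtype.ext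
    ((mem_centralizer_iff.1 g.2.2 z (mem_subgroupOf.1 hz)).symm)
  have hZtop : Z ≠ ⊤ := fun h => hCN fun g hg => by
    have : (⟨g, hg⟩ : C) ∈ Z := h ▸ mem_top _
    exact mem_subgroupOf.1 this
  have hnormal : ∀ L : Subgroup C, L.Normal → Z ≤ L → L = Z ∨ L = ⊤ := by
    intro L hLn hZL
    by_cases hL : 11 ∣ Nat.card L
    · refine Or.inr (eq_top_iff.2 ?_)
      have h121C : ¬ 11 ^ 2 ∣ Nat.card C := fun h => h121 (h.trans C.card_subgroup_dvd_card)
      set R := Subgroup.closure {g : G | orderOf g = 11}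
      have hRn : R.Normal := by
        refine ⟨fun a ha g => ?_⟩
        have hle : R.map (MulAut.conj g).toMonoidHom ≤ R := by
          rw [MonoidHom.map_closure, closure_le]
          rintro _ ⟨b, hb, rfl⟩
          exact subset_closure ((CfsgLib.Invol.orderOf_conj_eq g b).trans hb)
        exact hle ⟨a, ha, rfl⟩
      have hRC : R ≤ C := (closure_le _).2 fun g hg => hC g hg
      have hRL : ∀ g (hg : g ∈ C), g ∈ R → (⟨g, hg⟩ : C) ∈ L := by
        intro g hg hgR
        have hle : R ≤ L.map C.subtype := (closure_le _).2 fun a ha =>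
          ⟨⟨a, hC a ha⟩, mem_of_eleven h121C hL (by rw [Subgroup.orderOf_mk]; exact ha), rfl⟩
        obtain ⟨⟨a, haC⟩, haL, rfl⟩ := hle hgR
        exact haL
      have hNR : N ⊔ R = M := by
        refine le_antisymm (sup_le hNM.le (hRC.trans inf_le_left)) (hM.le_of_le ⟨inferInstance, ?_⟩ ?_)
        · refine lt_of_le_of_ne le_sup_left fun e => hN11 (hx ▸ Subgroup.orderOf_dvd_natCard N ?_)
          rw [e]; exact mem_sup_right (subset_closure hx)
        · exact sup_le hNM.le (hRC.trans inf_le_left)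
      rintro ⟨g, hg⟩ -
      have hgM : g ∈ N ⊔ R := by rw [hNR]; exact hg.1
      obtain ⟨a, ha, b, hb, rfl⟩ := mem_sup_of_normal_left.1 hgM
      have haC : a ∈ C := by
        have := mul_mem hg (inv_mem (hRC hb))
        rwa [mul_inv_cancel_right] at this
      exact L.mul_mem (x := ⟨a, haC⟩) (y := ⟨b, hRC hb⟩) (hZL (mem_subgroupOf.2 ha))
        (hRL b (hRC hb) hb)
    · refine Or.inl (le_antisymm ?_ hZL)
      have h1 := CfsgLib.Solvable.le_pPrimeCore hLn ((Nat.Prime.coprime_iff_not_dvd (by norm_num)).2 hL).symm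
      have := CfsgLib.Solvable.pPrimeCore_characteristic 11 C
      have hJn : ((Cfsg.pPrimeCore 11 C).map C.subtype).Normal :=
        ConjAct.normal_of_characteristic_of_normal
      have hJ : (Cfsg.pPrimeCore 11 C).map C.subtype ≤ N := CfsgLib.Solvable.le_pPrimeCore hJn (by
        rw [card_map_of_injective C.subtype_injective]
        exact ((Nat.Prime.coprime_iff_not_dvd (by norm_num)).2
          (CfsgLib.Comp.not_dvd_card_pPrimeCore 11 C)).symm)
      exact fun g hg => mem_subgroupOf.2 (hJ ⟨g, h1 hg, rfl⟩)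
  have hsimple : IsSimpleGroup (C ⧸ Z) := by
    have : Nontrivial (C ⧸ Z) := QuotientGroup.nontrivial_iff.2 hZtop
    refine ⟨fun H hH => ?_⟩
    rcases hnormal (H.comap (QuotientGroup.mk' Z)) inferInstance (by
      intro z hz
      rw [mem_comap, QuotientGroup.mk'_apply, (QuotientGroup.eq_one_iff z).2 hz]
      exact one_mem _) with h | h
    · refine Or.inl ?_
      rw [← map_comap_eq_self_of_surjective (QuotientGroup.mk'_surjective Z) H, h,
        QuotientGroup.map_mk'_self]
    · refine Or.inr ?_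
      rw [← map_comap_eq_self_of_surjective (QuotientGroup.mk'_surjective Z) H, h,
        map_top_of_surjective _ (QuotientGroup.mk'_surjective Z)]
  have hna : ¬ IsMulCommutative (C ⧸ Z) := fun hc => by
    let : CommGroup (C ⧸ Z) :=
      { (inferInstance : Group (C ⧸ Z)) with mul_comm := hc.is_comm.comm }
    have : IsCyclic (C ⧸ Z) := isCyclic_of_prime_card (p := Nat.card (C ⧸ Z))
      (hp := ⟨IsSimpleGroup.prime_card⟩) rfl
    have hcom : ∀ a ∈ C, ∀ b ∈ C, a * b = b * a := fun a ha b hb => congrArg Subtype.val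
      (commutative_of_cyclic_center_quotient (QuotientGroup.mk' Z)
        (by rw [QuotientGroup.ker_mk']; exact hZc) (⟨a, ha⟩ : C) ⟨b, hb⟩)
    exact hCidx ((show 11 ∣ 55 by norm_num).trans (h55.trans (StructC.DegreeModels.deg_dvd_index χ5 C hcom)))
  have hmul : C.index * ((Nat.card (C ⧸ Z)) * Nat.card Z) = 95040 := by
    rw [← Subgroup.card_eq_card_quotient_mul_card_subgroup, mul_comm, Subgroup.card_mul_index,
      hcard]
  have hQdvd : Nat.card (C ⧸ Z) ∣ 95040 :=
    hmul ▸ (dvd_mul_right _ _).mul_left _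
  have hQ11 : 11 ∣ Nat.card (C ⧸ Z) := by
    refine (((Nat.Prime.dvd_mul (m := Nat.card (C ⧸ Z)) (n := Nat.card Z)
      (by norm_num)).1 ?_).resolve_right fun h => ?_)
    · rw [← Subgroup.card_eq_card_quotient_mul_card_subgroup]; exact hC11
    · have he : Nat.card Z ∣ Nat.card N := by
        rw [hZdef, ← card_map_of_injective C.subtype_injective, subgroupOf_map_subtype]
        exact card_dvd_of_le inf_le_left
      exact hN11 (h.trans he)
  -- a constituent of the character with 55
  have := Fintype.ofFinite C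
  obtain ⟨ψ, hψ, hne⟩ := Char.exists_constituent
    (Char.isCharacter_restrict (Char.irr_isCharacter χ5.2) C) (Char.irr_apply_one_ne_zero χ5.2)
  obtain ⟨k, hk, hkd⟩ := Clifford.degree_quot_dvd_index (N := C) χ5.2 hψ hne
  set ψ' : IrrCharacter C := ⟨ψ, hψ⟩
  have hdeg : charDegree (χ5 : G → ℂ) = k * charDegree (ψ' : C → ℂ) := by
    have : ((charDegree (χ5 : G → ℂ) : ℕ) : ℂ) = ((k * charDegree (ψ' : C → ℂ) : ℕ) : ℂ) := by
      push_cast [BlockB.irr_degree_cast]
      exact hk
    exact_mod_cast this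
  have hψle : charDegree (ψ' : C → ℂ) ^ 2 ≤ Nat.card (C ⧸ Z) := by
    refine (Clifford.DegreesOneP.charDegree_sq_le_center_index ψ').trans ?_
    rw [← Subgroup.index_eq_card]
    exact Nat.le_of_dvd (Nat.pos_of_ne_zero index_ne_zero_of_finite) (index_dvd_of_le hZc)
  have hψpos : 0 < charDegree (ψ' : C → ℂ) := BlockB.irr_degree_pos ψ'
  have hψ11 : 11 ∣ charDegree (ψ' : C → ℂ) := by
    have h : 11 ∣ k * charDegree (ψ' : C → ℂ) := hdeg ▸ (show 11 ∣ 55 by norm_num).trans h55
    exact ((Nat.Prime.dvd_mul (by norm_num)).1 h).resolve_left fun h => hCidx (h.trans hkd)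
  have hbig : 121 ≤ Nat.card (C ⧸ Z) := by
    have := Nat.pow_le_pow_left (Nat.le_of_dvd hψpos hψ11) 2
    omega
  have h5 : 5 ∣ Nat.card (C ⧸ Z) → 3025 ≤ Nat.card (C ⧸ Z) := by
    intro h
    have hC5 : ¬ 5 ∣ C.index := fun hd => by
      have := Nat.mul_dvd_mul hd (h.mul_right (Nat.card Z))
      rw [hmul] at this
      norm_num at this
    have h5ψ : 5 ∣ charDegree (ψ' : C → ℂ) := by
      have h : 5 ∣ k * charDegree (ψ' : C → ℂ) := hdeg ▸ (show 5 ∣ 55 by norm_num).trans h55
      exact ((Nat.Prime.dvd_mul (by norm_num)).1 h).resolve_left fun h => hC5 (h.trans hkd)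
    have := Nat.pow_le_pow_left (Nat.le_of_dvd hψpos
      (Nat.Coprime.mul_dvd_of_dvd_of_dvd (by norm_num : Nat.Coprime 5 11) h5ψ hψ11)) 2
    omega
  rcases order_cases hna hQdvd hQ11 hbig h5 with hQ | hQ
  swap
  · left
    have h1 : C.index * Nat.card Z = 1 := by
      rw [hQ] at hmul
      exact Nat.eq_of_mul_eq_mul_left (by norm_num : 0 < 95040)
        (by rw [mul_one, ← mul_assoc, mul_comm (95040 : ℕ), mul_assoc]; exact hmul)
    have hCtop : C = ⊤ := Subgroup.index_eq_one.1 (Nat.eq_one_of_mul_eq_one_right h1)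
    have hZbot : Z = ⊥ := Subgroup.card_eq_one.1 (Nat.eq_one_of_mul_eq_one_left h1)
    have e : C ⧸ Z ≃* G := ((QuotientGroup.quotientMulEquivOfEq hZbot).trans
      (QuotientGroup.quotientBot)).trans ((MulEquiv.subgroupCongr hCtop).trans Subgroup.topEquiv)
    exact MulEquiv.isSimpleGroup e.symm
  right
  have := CfsgLib.Golay.isSimple_sporM11
  obtain ⟨e⟩ := Recog.OrderM11.iso_of_isM11 (K := C ⧸ Z) (H := ↥Spor.M11) ⟨hsimple, hQ⟩
    ⟨CfsgLib.Golay.isSimple_sporM11, CfsgLib.Golay.card_sporM11⟩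
  let s : C →* ↥Spor.M11 := e.toMonoidHom.comp (QuotientGroup.mk' Z)
  have hs : Function.Surjective s := e.surjective.comp (QuotientGroup.mk'_surjective Z)
  have hsker : ∀ a, s a = 1 ↔ a ∈ Z := fun a => by
    show e (QuotientGroup.mk' Z a) = 1 ↔ _
    rw [map_eq_one_iff e e.injective, QuotientGroup.mk'_apply, QuotientGroup.eq_one_iff]
  set C' := commutator C with hC'
  have hperf11 : commutator ↥Spor.M11 = ⊤ := CfsgLib.Transfer.commutator_eq_top_of_simple fun hc => by
    let : CommGroup ↥Spor.M11 :=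
      { (inferInstance : Group ↥Spor.M11) with mul_comm := hc.is_comm.comm }
    have h := IsSimpleGroup.prime_card (α := ↥Spor.M11)
    rw [CfsgLib.Golay.card_sporM11] at h
    norm_num at h
  have himg : C'.map s = ⊤ := by
    rw [hC', _root_.commutator_def, map_commutator, map_top_of_surjective _ hs, ← _root_.commutator_def, hperf11]
  have hdec : ∀ a : C, ∃ c ∈ C', ∃ z ∈ Z, a = c * z := fun a => by
    obtain ⟨c, hc, hca⟩ : s a ∈ C'.map s := himg ▸ mem_top _
    refine ⟨c, hc, c⁻¹ * a, (hsker _).1 (by rw [map_mul, map_inv, hca, inv_mul_cancel]), ?_⟩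
    group
  have hperf : commutator C' = ⊤ := by
    apply Subgroup.map_injective C'.subtype_injective
    rw [Subgroup.map_subtype_commutator, ← MonoidHom.range_eq_map, range_subtype]
    refine le_antisymm (commutator_le.2 fun a _ b _ => ?_) ?_
    · rw [hC', _root_.commutator_def]
      exact commutator_mem_commutator (mem_top a) (mem_top b)
    nth_rewrite 1 [hC', _root_.commutator_def]
    rw [commutator_le]
    intro a _ b _
    obtain ⟨c, hc, z, hz, rfl⟩ := hdec a
    obtain ⟨c', hc', z', hz', rfl⟩ := hdec b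
    have h1 := mem_center_iff.1 (hZc hz)
    have h2 := mem_center_iff.1 (hZc hz')
    have e1 : (c * z) * (c' * z') = (c * c') * (z * z') := by
      rw [mul_assoc c z, ← mul_assoc z c', ← h1 c']
      group
    have : ⁅c * z, c' * z'⁆ = ⁅c, c'⁆ := by
      simp only [commutatorElement_def, mul_inv_rev]
      rw [e1]
      calc c * c' * (z * z') * (z⁻¹ * c⁻¹) * (z'⁻¹ * c'⁻¹)
          = c * c' * (z * z' * z⁻¹) * c⁻¹ * z'⁻¹ * c'⁻¹ := by group
        _ = c * c' * z' * c⁻¹ * z'⁻¹ * c'⁻¹ := by rw [← h1 z']; group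
        _ = c * c' * (c⁻¹ * z') * z'⁻¹ * c'⁻¹ := by
          rw [mul_assoc (c * c') z', ← h2 c⁻¹]
        _ = c * c' * c⁻¹ * c'⁻¹ := by group
    rw [this]
    exact commutator_mem_commutator hc hc'
  let s' : C' →* ↥Spor.M11 := s.comp C'.subtype
  have hs' : Function.Surjective s' := fun m => by
    obtain ⟨c, hc, hcm⟩ : m ∈ C'.map s := himg ▸ mem_top _
    exact ⟨⟨c, hc⟩, hcm⟩
  have hs'inj : Function.Injective s' := by
    rw [← MonoidHom.ker_eq_bot_iff]
    exact ker_eq_bot hperf s' hs' fun a ha => mem_center_iff.2 fun g => Subtype.ext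
      (mem_center_iff.1 (hZc ((hsker _).1 ha)) g)
  let D := C'.map C.subtype
  have : C'.Characteristic := by rw [hC']; infer_instance
  have hDn : D.Normal := ConjAct.normal_of_characteristic_of_normal
  let eD : D ≃* ↥Spor.M11 := (C'.equivMapOfInjective C.subtype C.subtype_injective).symm.trans
    (MulEquiv.ofBijective s' ⟨hs'inj, hs'⟩)
  obtain ⟨E, ⟨eG⟩⟩ := split_M11 D eD
  have hE : Nat.card E = 12 := by
    have := Nat.card_congr eG.toEquiv
    rw [hcard, Nat.card_prod, CfsgLib.Golay.card_sporM11] at this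
    omega
  have hθ : IsIrrCharacter (↥E × ↥Spor.M11) ((χ3 : G → ℂ) ∘ eG.symm) :=
    Char.isIrrCharacter_comp_surjective χ3.2 eG.symm.toMonoidHom eG.symm.surjective
  obtain ⟨φ, ω, hφ, hω, he⟩ := (Char.isIrr_prod_iff _).1 hθ
  have h1 := congr_fun he 1
  simp only [Function.comp_apply, map_one, Prod.fst_one, Prod.snd_one] at h1
  have hd : charDegree (χ3 : G → ℂ) =
      charDegree ((⟨φ, hφ⟩ : IrrCharacter E) : E → ℂ) *
        charDegree ((⟨ω, hω⟩ : IrrCharacter ↥Spor.M11) : ↥Spor.M11 → ℂ) := by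
    have : ((charDegree (χ3 : G → ℂ) : ℕ) : ℂ) =
        ((charDegree ((⟨φ, hφ⟩ : IrrCharacter E) : E → ℂ) *
          charDegree ((⟨ω, hω⟩ : IrrCharacter ↥Spor.M11) : ↥Spor.M11 → ℂ) : ℕ) : ℂ) := by
      rw [Nat.cast_mul, BlockB.irr_degree_cast, BlockB.irr_degree_cast, BlockB.irr_degree_cast]
      exact h1
    exact_mod_cast this
  have h3 : 3 ∣ charDegree ((⟨φ, hφ⟩ : IrrCharacter E) : E → ℂ) := by
    have hsq := StructC.DegreeModels.sq_deg_le (⟨φ, hφ⟩ : IrrCharacter E)
    rw [hE] at hsq
    change charDegree ((⟨φ, hφ⟩ : IrrCharacter E) : E → ℂ) ^ 2 ≤ 12 at hsq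
    have hm := deg_M11 (χ := ⟨ω, hω⟩)
    rw [hd] at h33
    set a := charDegree ((⟨φ, hφ⟩ : IrrCharacter E) : E → ℂ)
    set b := charDegree ((⟨ω, hω⟩ : IrrCharacter ↥Spor.M11) : ↥Spor.M11 → ℂ)
    have ha : a < 4 := by nlinarith
    simp only [List.mem_cons, List.not_mem_nil, or_false] at hm
    rcases hm with h | h | h | h | h | h | h <;> rw [h] at h33 <;> interval_cases a <;> omega
  obtain ⟨eA⟩ := iso_alt_four hE ⟨φ, hφ⟩ h3
  exact ⟨eG.trans (MulEquiv.prodCongr eA (MulEquiv.refl _))⟩

end CfsgLib.ClassK.M12Graph
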